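import Cfsg.Agent.H52.Fi22Odd
import Cfsg.Agent.KFacts.MulY.Fi23
import Cfsg.Agent.Bimonster.FiFacts

/-!
# `Fi23` has no perfect central extension with kernel of odd prime order

The ten nodes of `Y₄₃₂` lift to involutions with the Coxeter relations and the `E₇` relation.  The tenth power `s` of the
spider is central with `s ^ 3 = 1`.  The translation `W` by `A₁ = b - c` of the affine Weyl group of type `E₆` has
`[W, R] = s ^ 2` for the rotation `R` of the three arms (`W` and `W ^ R` are translations which differ by three times a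
minuscule weight).  On the other hand in `Fi23` (already in `O₈⁺(3):2`) `W` is a product `P₁ P₀ j Q₁` of four
transpositions, `R` centralises `j` and `Q₁` and permutes `P₀`, `P₁`, `P₀ P₁ P₀` cyclically.  As transpositions have unique
involutory lifts, `R` centralises the lift of `P₁ P₀ j Q₁`, so that of `W`, and `s ^ 2 = 1`.
-/

set_option autoImplicit false
set_option maxRecDepth 100000
set_option linter.constructorNameAsVariable false

namespace Cfsg.Agent.H52.Fi23Odd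

open Cfsg Cfsg.Agent.Bimonster Cfsg.Agent.Bimonster.Tits Cfsg.Agent.KFacts.MulY.Tree
open Cfsg.Agent.KFacts.MulY.FiTree Cfsg.Agent.H51.Mult Cfsg.Agent.H52.OddLift
open Cfsg.Agent.KFacts.MulEven

/-! ### The words -/

/-- tree letters of the nine nodes `a, …, i` -/
def tr : Fin 9 → ℕ := ![13, 12, 11, 0, 1, 2, 3, 6, 7]

/-- the translation -/
def W9 : List (Fin 9) := [1, 3, 7, 8, 4, 3, 7, 5, 4, 3, 2, 3, 4, 5, 7, 3, 4, 8, 7, 3, 2, 1, 3, 7, 8, 4, 3, 7, 5, 4, 3, 2,
  3, 4, 5, 7, 3, 4, 8, 7, 3, 2]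
/-- the rotation -/
def R9 : List (Fin 9) := [5, 4, 3, 7, 8, 2, 3, 7, 4, 5, 3, 4, 2, 3, 7, 8]
/-- conjugators -/
def uP0 : List ℕ := [4, 3, 2, 1, 0, 6, 7, 11, 0, 6, 12, 11, 0, 1, 2, 3]
def uP1 : List ℕ := [3, 2, 1, 0, 6, 7, 1, 0, 6, 2, 3, 1, 2, 0, 1, 11, 0, 6, 12, 11, 0, 1, 2, 3]
def uQ1 : List ℕ := [3, 2, 1, 0, 6, 11, 0, 1, 12, 11, 0, 6, 2, 3, 1, 2, 0, 1, 11, 0, 6, 12, 11, 0, 1, 2, 3]

/-- conjugates of `j` -/
def pal (u : List ℕ) : List ℕ := u ++ [4] ++ u.reverse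

/-- the translation and the rotation in tree letters -/
def W : List ℕ := W9.map tr
def R : List ℕ := R9.map tr

/-! ### Checks -/

theorem chk_comm : Cox9.chk (W9 ++ R9 ++ W9.reverse ++ R9.reverse)
    ([2] ++ Cox9.rep 10 Cox9.spider ++ [2] ++ [8, 3, 4, 2, 3] ++ Cox9.rep 10 Cox9.spider ++ [3, 2, 4, 3, 8]) = true := by
  decide +kernel

theorem g1 : ev fiW (R ++ pal uP1 ++ R.reverse) = ev fiW (pal uP0) := fi_eq (by decide +kernel)
theorem g2 : ev fiW (R ++ pal uP0 ++ R.reverse) = ev fiW (pal uP0 ++ pal uP1 ++ pal uP0) := fi_eq (by decide +kernel)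
theorem g3 : ev fiW (R ++ pal uQ1 ++ R.reverse) = ev fiW (pal uQ1) := fi_eq (by decide +kernel)
theorem g4 : ev fiW W = ev fiW (pal uP1 ++ pal uP0 ++ pal [] ++ pal uQ1) := fi_eq (by decide +kernel)
theorem g5 : ev fiW (R ++ pal [] ++ R.reverse) = ev fiW (pal []) := fi_eq (by decide +kernel)

/-! ### Lifting -/

section

variable {E : Type*} [Group E] {π : E →* Spor.Fi23}

theorem exists_cox (h : OExt π) : ∃ y : ℕ → E, (∀ i, π (y i) = fiW i) ∧ (∀ i, y i * y i = 1) ∧ CoxS S23 y := by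
  choose y hy hsq using fun i => h.exists_inv (fiW_sq i)
  refine ⟨y, hy, hsq, fun i _ => hsq i, fun i j hi hj hij => ?_, fun i j hi hj hij => ?_⟩
  · exact h.comm (hsq i) (hsq j) (by rw [hy, hy]; exact fiW_cox.cm i j hi hj hij)
  · exact h.braid (hsq i) (hsq j) (by rw [hy, hy]; exact fiW_cox.br i j hi hj hij)

theorem tr_adj : ∀ i j : Fin 9, (Cox9.lab i j = 2 → S23 (tr i) = true ∧ S23 (tr j) = true ∧ adjB (tr i) (tr j) = false) ∧
    (Cox9.lab i j = 3 → S23 (tr i) = true ∧ S23 (tr j) = true ∧ adjB (tr i) (tr j) = true) := by decide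

theorem liftable {y : ℕ → E} (hy : CoxS S23 y) (hsq : ∀ i, y i * y i = 1) :
    Cox9.M9.IsLiftable (fun i => y (tr i)) := by
  refine Fi22Odd.liftable_of (fun i => hsq _) (fun i j h1 => ?_) (fun i j h1 => ?_)
  · obtain ⟨a, b, c⟩ := (tr_adj i j).1 h1
    exact hy.cm _ _ a b c
  · obtain ⟨a, b, c⟩ := (tr_adj i j).2 h1
    exact hy.br _ _ a b c

theorem ev9 (y : ℕ → E) (w : List (Fin 9)) : Cox9.ev (fun i => y (tr i)) w = ev y (w.map tr) := by
  rw [Cox9.ev, ev, List.map_map]; rfl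

theorem ev_rev {y : ℕ → E} (hsq : ∀ i, y i * y i = 1) (w : List ℕ) : ev y w.reverse = (ev y w)⁻¹ :=
  ev_reverse fun i _ => hsq i

/-- A conjugate of an involution. -/
theorem pal_sq {y : ℕ → E} (hsq : ∀ i, y i * y i = 1) (u : List ℕ) : ev y (pal u) * ev y (pal u) = 1 := by
  rw [pal, ev_append, ev_append, ev_rev hsq, ev_cons, ev_nil, mul_one]
  calc ev y u * y 4 * (ev y u)⁻¹ * (ev y u * y 4 * (ev y u)⁻¹) = ev y u * (y 4 * y 4) * (ev y u)⁻¹ := by group
    _ = 1 := by rw [hsq, mul_one, mul_inv_cancel]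

theorem conj_pal_sq {y : ℕ → E} (hsq : ∀ i, y i * y i = 1) (v u : List ℕ) :
    ev y (v ++ pal u ++ v.reverse) * ev y (v ++ pal u ++ v.reverse) = 1 := by
  rw [ev_append, ev_append, ev_rev hsq]
  calc ev y v * ev y (pal u) * (ev y v)⁻¹ * (ev y v * ev y (pal u) * (ev y v)⁻¹)
      = ev y v * (ev y (pal u) * ev y (pal u)) * (ev y v)⁻¹ := by group
    _ = 1 := by rw [pal_sq hsq, mul_one, mul_inv_cancel]

theorem map_ev' {y : ℕ → E} (hy : ∀ i, π (y i) = fiW i) (w : List ℕ) : π (ev y w) = ev fiW w := by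
  rw [map_ev]
  congr 1
  exact funext hy

/-- Identities between conjugates of transpositions lift. -/
theorem lift_eq (h : OExt π) {y : ℕ → E} (hy : ∀ i, π (y i) = fiW i) {v w : List ℕ}
    (hv : ev y v * ev y v = 1) (hw : ev y w * ev y w = 1) (he : ev fiW v = ev fiW w) : ev y v = ev y w :=
  h.unique hv hw (by rw [map_ev' hy, map_ev' hy, he])

theorem pal_rev (u : List ℕ) : (pal u).reverse = pal u := by
  simp [pal]

/-- The rotation commutes with the translation. -/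
theorem comm_RW (h : OExt π) {y : ℕ → E} (hy : ∀ i, π (y i) = fiW i) (hsq : ∀ i, y i * y i = 1) :
    ev y W * ev y R = ev y R * ev y W := by
  have e1 : ev y (R ++ pal uP1 ++ R.reverse) = ev y (pal uP0) :=
    lift_eq h hy (conj_pal_sq hsq _ _) (pal_sq hsq _) g1
  have e2 : ev y (R ++ pal uP0 ++ R.reverse) = ev y (pal uP0 ++ pal uP1 ++ pal uP0) := by
    refine lift_eq h hy (conj_pal_sq hsq _ _) ?_ g2
    have := conj_pal_sq hsq (pal uP0) uP1
    rwa [pal_rev] at this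
  have e3 : ev y (R ++ pal uQ1 ++ R.reverse) = ev y (pal uQ1) :=
    lift_eq h hy (conj_pal_sq hsq _ _) (pal_sq hsq _) g3
  have e5 : ev y (R ++ pal [] ++ R.reverse) = ev y (pal []) :=
    lift_eq h hy (conj_pal_sq hsq _ _) (pal_sq hsq _) g5
  rw [ev_append, ev_append, ev_rev hsq] at e1 e2 e3 e5
  rw [ev_append, ev_append] at e2
  set r := ev y R with hr
  set p0 := ev y (pal uP0) with hp0
  set p1 := ev y (pal uP1) with hp1
  set q0 := ev y (pal []) with hq0
  set q1 := ev y (pal uQ1) with hq1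
  have hp0s : p0 * p0 = 1 := pal_sq hsq _
  -- the product of the four transpositions commutes with `r`
  have hT : r * (p1 * p0 * q0 * q1) * r⁻¹ = p1 * p0 * q0 * q1 := by
    calc r * (p1 * p0 * q0 * q1) * r⁻¹ = (r * p1 * r⁻¹) * (r * p0 * r⁻¹) * (r * q0 * r⁻¹) * (r * q1 * r⁻¹) := by group
      _ = p0 * (p0 * p1 * p0) * q0 * q1 := by rw [e1, e2, e3, e5]
      _ = (p0 * p0) * p1 * p0 * q0 * q1 := by simp only [mul_assoc]
      _ = p1 * p0 * q0 * q1 := by rw [hp0s, one_mul]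
  have hk : π (ev y W * (p1 * p0 * q0 * q1)⁻¹) = 1 := by
    rw [map_mul, map_inv, map_ev' hy, g4, ← ev_append, ← ev_append, ← ev_append, map_ev' hy, mul_inv_cancel]
  have hc := h.cen _ hk
  obtain ⟨ζ, hζ⟩ : ∃ ζ, ζ = ev y W * (p1 * p0 * q0 * q1)⁻¹ := ⟨_, rfl⟩
  rw [← hζ] at hc
  have hW : ev y W = ζ * (p1 * p0 * q0 * q1) := by rw [hζ, inv_mul_cancel_right]
  have hT' : r * (p1 * p0 * q0 * q1) = (p1 * p0 * q0 * q1) * r := by
    rw [← hT]; rw [inv_mul_cancel_right]; rw [hT]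
  rw [hW]
  calc ζ * (p1 * p0 * q0 * q1) * r = ζ * (r * (p1 * p0 * q0 * q1)) := by rw [mul_assoc, hT']
    _ = r * ζ * (p1 * p0 * q0 * q1) := by rw [← mul_assoc, hc r]
    _ = _ := by rw [mul_assoc]

/-- **The spider relation lifts.** -/
theorem spider_one (h : OExt π) {y : ℕ → E} (hy : ∀ i, π (y i) = fiW i) (hsq : ∀ i, y i * y i = 1)
    (hcox : CoxS S23 y) : ev y spW ^ 10 = 1 := by
  have hl := liftable hcox hsq
  set m : Fin 9 → E := fun i => y (tr i) with hm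
  set s := Cox9.ev m Cox9.spider ^ 10 with hs
  have hsp : Cox9.ev m Cox9.spider = ev y [0, 11, 12, 0, 1, 2, 0, 6, 7] := ev9 y Cox9.spider
  have hπs : π s = 1 := by
    rw [hs, hsp, map_pow, map_ev' hy, fiW_sp']
  have hc : ∀ g, s * g = g * s := h.cen s hπs
  have h1 := Cox9.ev_eq_ev hl chk_comm
  simp only [Cox9.ev_append, Cox9.ev_rep] at h1
  rw [← hs, Cox9.ev_reverse hl, Cox9.ev_reverse hl] at h1
  have e1 : Cox9.ev m [2] * Cox9.ev m [2] = 1 := by
    rw [← Cox9.ev_append]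
    exact Cox9.ev_eq_ev hl (w' := []) (by decide +kernel)
  have e2 : Cox9.ev m [8, 3, 4, 2, 3] * Cox9.ev m [3, 2, 4, 3, 8] = 1 := by
    rw [← Cox9.ev_append]
    exact Cox9.ev_eq_ev hl (w' := []) (by decide +kernel)
  have hR : Cox9.ev m R9 = ev y R := ev9 y R9
  have hW : Cox9.ev m W9 = ev y W := ev9 y W9
  have hcomm := comm_RW h hy hsq
  rw [← hR, ← hW] at hcomm
  have h2 : Cox9.ev m W9 * Cox9.ev m R9 * (Cox9.ev m W9)⁻¹ * (Cox9.ev m R9)⁻¹ = 1 := by
    rw [hcomm]; group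
  rw [h2] at h1
  have h3 : s * s = 1 := by
    rw [h1]
    calc s * s = s * (Cox9.ev m [2] * Cox9.ev m [2]) * (Cox9.ev m [8, 3, 4, 2, 3] * Cox9.ev m [3, 2, 4, 3, 8]) * s := by
          rw [e1, e2, mul_one, mul_one]
      _ = (s * Cox9.ev m [2]) * Cox9.ev m [2] * Cox9.ev m [8, 3, 4, 2, 3] * (Cox9.ev m [3, 2, 4, 3, 8] * s) := by
          simp only [mul_assoc]
      _ = (Cox9.ev m [2] * s) * Cox9.ev m [2] * Cox9.ev m [8, 3, 4, 2, 3] * (s * Cox9.ev m [3, 2, 4, 3, 8]) := by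
          rw [hc, hc (Cox9.ev m [3, 2, 4, 3, 8])]
      _ = _ := by simp only [mul_assoc]
  have h4 : s = 1 := h.one_of_sq hπs h3
  -- `spW` is a rotation of the spider
  have e3 : ev y spW = (ev y [0, 11, 12])⁻¹ * ev y [0, 11, 12, 0, 1, 2, 0, 6, 7] * ((ev y [0, 11, 12])⁻¹)⁻¹ := by
    have a1 : ev y spW = ev y [0, 1, 2, 0, 6, 7] * ev y [0, 11, 12] := by
      rw [← ev_append]; rfl
    have a2 : ev y [0, 11, 12, 0, 1, 2, 0, 6, 7] = ev y [0, 11, 12] * ev y [0, 1, 2, 0, 6, 7] := by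
      rw [← ev_append]; rfl
    rw [a1, a2]; group
  rw [e3, conj_pow, ← hsp, ← hs, h4, mul_one, mul_inv_cancel]

/-- **The section.** -/
theorem exists_section (h : OExt π) : ∃ θ : Spor.Fi23 →* E, ∀ x, π (θ x) = x := by
  obtain ⟨y, hy, hsq, hcox⟩ := exists_cox h
  have he : ev y e7W ^ 9 = 1 := by
    refine h.one_of_sq ?_ ?_
    · rw [map_pow, map_ev' hy, fiW_e7]
    · have h1 := cx_good hcox.art
      rw [one_pow, fiA_good hcox, pow_two] at h1
      exact h1
  have hs := spider_one h hy hsq hcox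
  obtain ⟨θ, hθ⟩ := fi_hom (firel hcox he hs)
  have hid : π.comp θ = MonoidHom.id _ := by
    apply PresentedGroup.ext
    intro g
    show π (θ (PresentedGroup.of g)) = PresentedGroup.of g
    rw [hθ, hy]
    cases g <;> rfl
  exact ⟨θ, fun x => DFunLike.congr_fun hid x⟩

end

/-- A perfect central extension of `Fi23` with kernel of odd exponent is trivial. -/
theorem ker_eq_bot {L : Type*} [Group L] {π : L →* Spor.Fi23} (h : PCE π) (ho : OExt π) : π.ker = ⊥ := by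
  obtain ⟨θ, hθ⟩ := exists_section ho
  have h1 := ker_le_of_section h (MonoidHom.id L) θ (fun x => ⟨x * (θ (π x))⁻¹, by
    rw [map_mul, map_inv, hθ, mul_inv_cancel], by
    show x = x * (θ (π x))⁻¹ * θ (π x)
    rw [inv_mul_cancel_right]⟩)
  rw [eq_bot_iff]
  intro x hx
  exact h1 hx

/-- **No cover of odd prime degree.** -/
theorem noCov {p : ℕ} (hp : p.Prime) (h2 : p ≠ 2) : NoCov p Spor.Fi23 := by
  intro L _ _ π h hc
  have hP : IsPGroup p π.ker := IsPGroup.of_card (n := 1) (by rw [hc, pow_one])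
  have h1 := ker_eq_bot h (oext_of_pce h hp h2 hP)
  rw [h1, Subgroup.card_bot] at hc
  exact hp.one_lt.ne hc

end Cfsg.Agent.H52.Fi23Odd
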