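import Cfsg.Agent.H52.ThreeFi24Chk
import Cfsg.Agent.H52.SimplePerfect
import Cfsg.Agent.H51.Mult
import Cfsg.Agent.R08.TLabel3
import Cfsg.Agent.S1698

/-!
# The perfect triple cover of `Fi24'`

The group `P3` presented by the relations of the triple cover maps onto `Fi24` with kernel of order three: at most three
by the coset enumeration, at least three by the action on 920808 points.  Its commutator subgroup is the triple cover.
-/

set_option autoImplicit false
set_option linter.constructorNameAsVariable false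
set_option maxRecDepth 100000

namespace Cfsg.Agent.H52.ThreeFi24

open Cfsg.Spor Cfsg.Agent.R08.TVar Cfsg.Agent.R08.TThree Cfsg.Agent.R08.TIso Cfsg.Agent.H51.Mult
open Cfsg.Agent.Lib.PermNet Cfsg.Agent.Fischer.Fi24RepLib Cfsg.Agent.Fischer.TriTwo Cfsg.Agent.Fischer.TriDef
open Cfsg.Agent.Fischer.Fi24RepDef (rep)
open Cfsg.Agent.Fischer.Fi24Rep (gen word)
open Cfsg.Agent.Fischer.TriUp (isRel0_rho IsRel0 map_rep hN)
open Cfsg.Agent.Fischer.TriLev (adj2)
open Cfsg.Agent.H52.ThreeFi24Chk
open scoped commutatorElement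

/-! ### The permutations -/

theorem sp_rho : (spW.map T.rho).prod ^ 10 = 1 := by
  have h : wperm (T.nw (rep 10 spW) false) = wperm (T.nw [] false) :=
    wperm_eq_of_chk1 (k := 20) (N := 983040) hN (okT.wok _ _) (okT.wok _ _)
      (fun b hb => chkL_spec (chkSp b hb) _ (List.mem_singleton.2 rfl))
  rw [(okT.wperm_nw _).1, (okT.wperm_nw _).1, map_rep, List.map_nil, List.prod_nil] at h
  exact h

theorem pow_label {G : Type*} [Group G] {x : Fi24.Gen → G} (h : IsRel0 x) (s t : Fi24.Gen) :
    (x s * x t) ^ coxLabel Fi24.edges s t = 1 := by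
  have key : coxLabel Fi24.edges s t = 1 ∧ s = t ∨ coxLabel Fi24.edges s t = 2 ∧ adj2 s t = false ∨
      coxLabel Fi24.edges s t = 3 ∧ adj2 s t = true := by
    cases s <;> cases t <;> decide
  rcases key with ⟨h1, rfl⟩ | ⟨h1, h2⟩ | ⟨h1, h2⟩
  · rw [h1, pow_one, h.inv]
  · rw [h1, pow_two]
    calc x s * x t * (x s * x t) = x s * x t * (x t * x s) := by rw [h.comm s t h2]
      _ = x s * (x t * x t) * x s := by group
      _ = 1 := by rw [h.inv, mul_one, h.inv]
  · rw [h1]
    have h3 := h.braid s t h2
    calc (x s * x t) ^ 3 = (x s * x t * x s) * (x t * x s * x t) := by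
          rw [pow_succ, pow_succ, pow_one]; group
      _ = (x t * x s * x t) * (x t * x s * x t) := by rw [h3]
      _ = x t * x s * (x t * x t) * x s * x t := by group
      _ = x t * (x s * x s) * x t := by rw [h.inv t]; group
      _ = 1 := by rw [h.inv, mul_one, h.inv]

theorem rel3_rho : Rel3 T.rho where
  cox := pow_label isRel0_rho
  el := by
    have h1 := isRel0_rho.el
    have h2 : (Cfsg.Agent.Fischer.Fi24RepDef.c0.map T.rho).prod =
        T.rho .a * T.rho .b * T.rho .c * T.rho .d * T.rho .e * T.rho .f * T.rho .h := by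
      simp only [Cfsg.Agent.Fischer.Fi24RepDef.c0, List.map_cons, List.map_nil, List.prod_cons, List.prod_nil, mul_one,
        mul_assoc]
    rw [h2] at h1; exact h1
  sp := by
    have h1 := sp_rho
    have h2 : (spW.map T.rho).prod = T.rho .d * T.rho .c * T.rho .b * T.rho .d * T.rho .e * T.rho .f * T.rho .d *
        T.rho .h * T.rho .i := by
      simp only [spW, List.map_cons, List.map_nil, List.prod_cons, List.prod_nil, mul_one, mul_assoc]
    rw [h2] at h1; exact h1

theorem toW3_z : toW3 rel3_rho z17 = (w17'.map T.rho).prod ^ 17 := by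
  rw [z17, map_pow, map_list_prod, List.map_map]
  have : (toW3 rel3_rho) ∘ (fun s => (PresentedGroup.of s : P3)) = T.rho := by
    funext s; exact toW3_of rel3_rho s
  rw [this]
  rfl

theorem pow_ne {n : ℕ} (h : Nat.beq (im (rep n w17')) 0 = false) : (w17'.map T.rho).prod ^ n ≠ 1 := by
  intro h1
  rw [im, ptWord_eq (okT.wok _ _), (okT.wperm_nw _).1, map_rep, h1] at h
  exact absurd h (by decide)

theorem z17_ne : z17 ≠ 1 := by
  intro h
  have h1 := toW3_z
  rw [h, map_one] at h1
  exact pow_ne z_one h1.symm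

theorem z17_sq_ne : z17 ^ 2 ≠ 1 := by
  intro h
  have h1 := congrArg (toW3 rel3_rho) h
  rw [map_pow, map_one, toW3_z, ← pow_mul] at h1
  exact pow_ne z_two h1

/-! ### The presented group -/

/-- The homomorphism to `Fi24`. -/
noncomputable def q3 : P3 →* Fi24 := toW3 relT_gen.toRel3

theorem q3_of (s : Fi24.Gen) : q3 (PresentedGroup.of s) = gen s := toW3_of relT_gen.toRel3 s

theorem q3_surj : Function.Surjective q3 := toW3_surjective

theorem card_P3 : Finite P3 ∧ Nat.card P3 ≤ 3 * 2510411418381323442585600 :=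
  card_le Cfsg.Agent.R08.TLabel3.label3 rel3_P (PresentedGroup.closure_range_of _) Cfsg.Agent.S1697.result.2

instance finite_P3 : Finite P3 := card_P3.1

theorem card_ker_le : Nat.card q3.ker ≤ 3 := by
  have hcard := card_P3.2
  have h1 := Subgroup.card_mul_index q3.ker
  rw [Subgroup.index_ker, MonoidHom.range_eq_top.2 q3_surj, Subgroup.card_top, card_Fi24] at h1
  rw [← h1] at hcard
  exact Nat.le_of_mul_le_mul_right hcard (by norm_num)

theorem z17_mem' : z17 ∈ q3.ker := z17_mem

theorem card_ker : Nat.card q3.ker = 3 := by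
  have h1 := card_ker_le
  have h2 : orderOf (⟨z17, z17_mem'⟩ : q3.ker) ∣ Nat.card q3.ker := orderOf_dvd_natCard _
  have h3 : orderOf (⟨z17, z17_mem'⟩ : q3.ker) = orderOf z17 := Subgroup.orderOf_mk _ _
  rw [h3] at h2
  have h4 : orderOf z17 ≠ 1 := fun h => z17_ne (orderOf_eq_one_iff.1 h)
  have h5 : orderOf z17 ≠ 2 := fun h => z17_sq_ne (by rw [← h, pow_orderOf_eq_one])
  have h6 : 0 < Nat.card q3.ker := Nat.card_pos
  have h7 := Nat.le_of_dvd h6 h2
  have h8 : orderOf z17 ≠ 0 := by
    intro h
    rw [h, zero_dvd_iff] at h2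
    omega
  omega

theorem central {z c : P3} (hz : z ∈ q3.ker) (hc : c ∈ commutator P3) : c * z = z * c :=
  comm_of_card_le _ card_ker_le hz hc

theorem perfect_fi24' : commutator Fi24' = ⊤ := by
  have h1 := Cfsg.Agent.S1698.result.1
  have h2 : Nat.card Fi24' = _ := Cfsg.Agent.S1698.result.2
  have h3 : Finite Fi24' := Nat.finite_of_card_ne_zero (by rw [h2]; norm_num)
  refine SimplePerfect.perfect_of_simple ?_
  rw [h2]
  norm_num

theorem comm_comm : ⁅commutator Fi24, commutator Fi24⁆ = commutator Fi24 := by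
  have h1 := congrArg (Subgroup.map (commutator Fi24).subtype) perfect_fi24'
  rw [commutator_def Fi24', Subgroup.map_commutator, ← MonoidHom.range_eq_map, Subgroup.range_subtype] at h1
  exact h1

/-- `W'' Z = W'` -/
theorem exists_mul {e : P3} (he : e ∈ commutator P3) :
    ∃ d ∈ ⁅commutator P3, commutator P3⁆, ∃ z ∈ q3.ker, e = d * z := by
  have h1 : (⁅commutator P3, commutator P3⁆ : Subgroup P3).map q3 = commutator Fi24 := by
    rw [Subgroup.map_commutator, commutator_def P3, Subgroup.map_commutator, Subgroup.map_top_of_surjective q3 q3_surj,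
      ← commutator_def Fi24, comm_comm]
  have h2 : q3 e ∈ commutator Fi24 := by
    have h3 : q3 e ∈ (commutator P3).map q3 := ⟨e, he, rfl⟩
    rw [commutator_def P3, Subgroup.map_commutator, Subgroup.map_top_of_surjective q3 q3_surj,
      ← commutator_def Fi24] at h3
    exact h3
  rw [← h1] at h2
  obtain ⟨d, hd, hde⟩ := h2
  refine ⟨d, hd, d⁻¹ * e, ?_, by group⟩
  rw [MonoidHom.mem_ker, map_mul, map_inv, hde, inv_mul_cancel]

/-- the generators -/
abbrev y (s : Fi24.Gen) : P3 := PresentedGroup.of s

theorem mul_mem_comm (s t : Fi24.Gen) : y s * y t ∈ commutator P3 := by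
  have h1 := mul_mem_commutator rel3_P s
  have h2 := mul_mem_commutator rel3_P t
  have h3 : y s * y t = (y .l * y s)⁻¹ * (y .l * y t) := by
    rw [mul_inv_rev, rel3_P.inv_y, rel3_P.inv_y]
    calc y s * y t = y s * (1 * y t) := by rw [one_mul]
      _ = y s * ((y .l * y .l) * y t) := by rw [rel3_P.sq .l]
      _ = _ := by simp only [mul_assoc]
  rw [h3]
  exact mul_mem (inv_mem h1) h2

/-- **The commutator subgroup is perfect.** -/
theorem perfect_P3 : ⁅commutator P3, commutator P3⁆ = commutator P3 := by
  apply le_antisymm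
  · rw [Subgroup.commutator_le]
    intro a ha b hb
    rw [commutatorElement_def]
    exact mul_mem (mul_mem (mul_mem ha hb) (inv_mem ha)) (inv_mem hb)
  · set N : Subgroup P3 := ⁅commutator P3, commutator P3⁆ with hN
    have hNn : N.Normal := by rw [hN]; infer_instance
    let q : P3 →* P3 ⧸ N := QuotientGroup.mk' N
    have hq : ∀ g, q g = 1 ↔ g ∈ N := fun g => QuotientGroup.eq_one_iff g
    have hcube : ∀ e ∈ commutator P3, q e ^ 3 = 1 := by
      intro e he
      obtain ⟨d, hd, z, hz, rfl⟩ := exists_mul he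
      have h1 : z ^ 3 = 1 := by
        have h2 : (⟨z, hz⟩ : q3.ker) ^ 3 = 1 := by rw [← card_ker, pow_card_eq_one']
        exact congrArg Subtype.val h2
      rw [map_mul, (hq d).2 hd, one_mul, ← map_pow, h1, map_one]
    have hcomm : ∀ s t, coxLabel Fi24.edges s t = 2 → q (y s) = q (y t) := by
      intro s t hst
      have h1 := hcube _ (mul_mem_comm s t)
      have h2 : q (y s * y t) ^ 2 = 1 := by
        have h3 := rel3_P.cox s t
        rw [hst] at h3
        rw [← map_pow]
        rw [show (y s * y t) ^ 2 = 1 from h3, map_one]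
      have h3 : q (y s * y t) = 1 := by
        calc q (y s * y t) = q (y s * y t) ^ 3 * (q (y s * y t) ^ 2)⁻¹ := by group
          _ = 1 := by rw [h1, h2, inv_one, one_mul]
      rw [map_mul] at h3
      have h4 : q (y t) * q (y t) = 1 := by rw [← map_mul, rel3_P.sq t, map_one]
      rw [mul_eq_one_iff_eq_inv] at h3
      rw [h3]
      exact inv_eq_of_mul_eq_one_left h4
    have hall : ∀ s, q (y s) = q (y .l) := by
      intro s
      cases s
      · rfl
      · exact (hcomm .k .d (by decide)).trans (hcomm .d .l (by decide))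
      all_goals exact hcomm _ _ (by decide)
    have hgen : ∀ g : P3, Commute (q g) (q (y .l)) ∧ ∃ n : ℤ, q g = q (y .l) ^ n := by
      intro g
      have hg : g ∈ Subgroup.closure (Set.range (fun s => (PresentedGroup.of s : P3))) := by
        rw [show Subgroup.closure (Set.range (fun s => (PresentedGroup.of s : P3))) = ⊤ from
          PresentedGroup.closure_range_of _]
        trivial
      have key : ∃ n : ℤ, q g = q (y .l) ^ n := by
        induction hg using Subgroup.closure_induction with
        | mem x hx =>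
          obtain ⟨s, rfl⟩ := hx
          exact ⟨1, by rw [zpow_one]; exact hall s⟩
        | one => exact ⟨0, by rw [map_one, zpow_zero]⟩
        | mul a b _ _ ha hb =>
          obtain ⟨m, hm⟩ := ha
          obtain ⟨n, hn⟩ := hb
          exact ⟨m + n, by rw [map_mul, hm, hn, zpow_add]⟩
        | inv a _ ha =>
          obtain ⟨m, hm⟩ := ha
          exact ⟨-m, by rw [map_inv, hm, zpow_neg]⟩
      obtain ⟨n, hn⟩ := key
      exact ⟨by rw [hn]; exact (Commute.refl _).zpow_left n, n, hn⟩
    rw [commutator_def P3, Subgroup.commutator_le]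
    intro a _ b _
    rw [← hq, map_commutatorElement, commutatorElement_eq_one_iff_mul_comm]
    obtain ⟨-, m, hm⟩ := hgen a
    obtain ⟨-, n, hn⟩ := hgen b
    rw [hm, hn, ← zpow_add, ← zpow_add, add_comm]

/-! ### The cover -/

/-- The triple cover. -/
abbrev L3 : Type := ↥(commutator P3)

/-- The covering map. -/
noncomputable def π3 : L3 →* Fi24' :=
  (q3.comp (commutator P3).subtype).codRestrict (commutator Fi24) (by
    rintro ⟨e, he⟩
    have h3 : q3 e ∈ (commutator P3).map q3 := ⟨e, he, rfl⟩
    rw [commutator_def P3, Subgroup.map_commutator, Subgroup.map_top_of_surjective q3 q3_surj,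
      ← commutator_def Fi24] at h3
    exact h3)

theorem π3_coe (e : L3) : ((π3 e : Fi24') : Fi24) = q3 e := rfl

theorem pce : PCE π3 where
  surj := by
    rintro ⟨g, hg⟩
    have h1 : (commutator P3).map q3 = commutator Fi24 := by
      rw [commutator_def P3, Subgroup.map_commutator, Subgroup.map_top_of_surjective q3 q3_surj,
        ← commutator_def Fi24]
    have h2 := hg
    rw [← h1] at h2
    obtain ⟨e, he, heg⟩ := h2
    exact ⟨⟨e, he⟩, Subtype.ext heg⟩
  cen := by
    intro z hz
    rw [Subgroup.mem_center_iff]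
    intro g
    have h1 : (z : P3) ∈ q3.ker := by
      rw [MonoidHom.mem_ker, ← π3_coe, MonoidHom.mem_ker.1 hz]; rfl
    exact Subtype.ext (central h1 g.2)
  perf := by
    have h1 : (commutator L3).map (commutator P3).subtype = commutator P3 := by
      rw [commutator_def L3, Subgroup.map_commutator, ← MonoidHom.range_eq_map, Subgroup.range_subtype, perfect_P3]
    rw [eq_top_iff]
    intro g _
    have h2 : (g : P3) ∈ (commutator L3).map (commutator P3).subtype := by rw [h1]; exact g.2
    obtain ⟨g', hg', he⟩ := h2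
    have : g' = g := Subtype.ext he
    rwa [← this]

theorem z17_even : z17 ∈ commutator P3 := by
  have h1 : (w17'.map fun s => (PresentedGroup.of s : P3)).prod ∈ commutator P3 := by
    have e : (w17'.map fun s => (PresentedGroup.of s : P3)).prod =
        (y .d * y .c) * (y .b * y .a) * (y .k * y .l) * (y .d * y .e) * (y .f * y .g) * (y .j * y .d) *
          (y .h * y .i) := by
      simp only [w17', List.map_cons, List.map_nil, List.prod_cons, List.prod_nil, mul_one, mul_assoc]
    rw [e]
    exact mul_mem (mul_mem (mul_mem (mul_mem (mul_mem (mul_mem (mul_mem_comm _ _) (mul_mem_comm _ _))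
      (mul_mem_comm _ _)) (mul_mem_comm _ _)) (mul_mem_comm _ _)) (mul_mem_comm _ _)) (mul_mem_comm _ _)
  exact pow_mem h1 17

theorem card_ker_π3 : 3 ∣ Nat.card π3.ker := by
  have h1 : Nat.card π3.ker ∣ 3 := by
    rw [← card_ker]
    let ι : π3.ker →* q3.ker := MonoidHom.mk' (fun z => ⟨z.1.1, by
      rw [MonoidHom.mem_ker, ← π3_coe, MonoidHom.mem_ker.1 z.2]; rfl⟩) (fun _ _ => rfl)
    refine Subgroup.card_dvd_of_injective ι ?_
    intro a b hab
    have h2 : (a.1.1 : P3) = b.1.1 := congrArg (fun z : q3.ker => (z : P3)) hab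
    exact Subtype.ext (Subtype.ext h2)
  rcases (Nat.dvd_prime Nat.prime_three).1 h1 with h2 | h2
  · exfalso
    have h3 : π3.ker = ⊥ := Subgroup.card_eq_one.1 h2
    have h4 : (⟨z17, z17_even⟩ : L3) ∈ π3.ker := by
      rw [MonoidHom.mem_ker]
      refine Subtype.ext ?_
      rw [π3_coe]
      exact MonoidHom.mem_ker.1 z17_mem'
    rw [h3, Subgroup.mem_bot] at h4
    exact z17_ne (congrArg Subtype.val h4)
  · rw [h2]

end Cfsg.Agent.H52.ThreeFi24
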