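import Cfsg.Agent.H51.Mult

/-!
# Lifting involutions to central extensions with kernel of odd exponent

In a central extension `π : E →* P` whose kernel has odd exponent every involution has exactly one lift which is an
involution; so commuting and braided pairs of involutions lift to commuting and braided pairs.
-/

set_option autoImplicit false
set_option linter.style.haveILetI false

namespace Cfsg.Agent.H52.OddLift

open Cfsg.Agent.H51.Mult

/-- A surjective homomorphism with central kernel of odd exponent. -/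
structure OExt {E P : Type*} [Group E] [Group P] (π : E →* P) : Prop where
  surj : Function.Surjective π
  cen : ∀ k, π k = 1 → ∀ g, k * g = g * k
  odd : ∃ n : ℕ, ∀ k, π k = 1 → k ^ (2 * n + 1) = 1

variable {E P : Type*} [Group E] [Group P] {π : E →* P}

theorem OExt.one_of_sq (h : OExt π) {k : E} (hk : π k = 1) (h2 : k * k = 1) : k = 1 := by
  obtain ⟨n, hn⟩ := h.odd
  have := hn k hk
  rwa [pow_succ, pow_mul, pow_two, h2, one_pow, one_mul] at this

/-- Two involutions with the same image are equal. -/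
theorem OExt.unique (h : OExt π) {y y' : E} (hy : y * y = 1) (hy' : y' * y' = 1) (he : π y = π y') : y = y' := by
  have hk : π (y⁻¹ * y') = 1 := by rw [map_mul, map_inv, he, inv_mul_cancel]
  have hc := h.cen _ hk
  have h1 : (y⁻¹ * y') * (y⁻¹ * y') = 1 := by
    have hyi : y⁻¹ = y := inv_eq_of_mul_eq_one_left hy
    have e1 : y * (y⁻¹ * y') * (y * (y⁻¹ * y')) = 1 := by rw [mul_inv_cancel_left, hy']
    calc (y⁻¹ * y') * (y⁻¹ * y') = y * y * (y⁻¹ * y' * (y⁻¹ * y')) := by rw [hy, one_mul]
      _ = y * (y * (y⁻¹ * y')) * (y⁻¹ * y') := by simp only [mul_assoc]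
      _ = y * ((y⁻¹ * y') * y) * (y⁻¹ * y') := by rw [hc y]
      _ = y * (y⁻¹ * y') * (y * (y⁻¹ * y')) := by simp only [mul_assoc]
      _ = 1 := e1
  have h2 := h.one_of_sq hk h1
  exact inv_mul_eq_one.1 h2

/-- An involution lifts to an involution. -/
theorem OExt.exists_inv (h : OExt π) {x : P} (hx : x * x = 1) : ∃ y, π y = x ∧ y * y = 1 := by
  obtain ⟨m, rfl⟩ := h.surj x
  obtain ⟨n, hn⟩ := h.odd
  have hk : π (m * m) = 1 := by rw [map_mul, hx]
  have hc : ∀ j : ℕ, Commute ((m * m) ^ j) m := fun j => Commute.pow_left (show Commute (m * m) m from h.cen _ hk m) j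
  refine ⟨m * (m * m) ^ n, ?_, ?_⟩
  · rw [map_mul, map_pow, hk, one_pow, mul_one]
  · calc m * (m * m) ^ n * (m * (m * m) ^ n) = m * ((m * m) ^ n * m) * (m * m) ^ n := by simp only [mul_assoc]
      _ = m * (m * (m * m) ^ n) * (m * m) ^ n := by rw [(hc n).eq]
      _ = (m * m) ^ (2 * n + 1) := by rw [pow_succ', two_mul, pow_add]; simp only [mul_assoc]
      _ = 1 := hn _ hk

theorem conj_inv_sq {a b : E} (ha : a * a = 1) (hb : b * b = 1) : (a * b * a) * (a * b * a) = 1 := by
  calc (a * b * a) * (a * b * a) = a * b * (a * a) * b * a := by simp only [mul_assoc]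
    _ = a * (b * b) * a := by rw [ha, mul_one]; simp only [mul_assoc]
    _ = 1 := by rw [hb, mul_one, ha]

/-- Commuting involutions lift to commuting involutions. -/
theorem OExt.comm (h : OExt π) {a b : E} (ha : a * a = 1) (hb : b * b = 1) (hab : π a * π b = π b * π a) :
    a * b = b * a := by
  have h1 : a * b * a = b := by
    refine h.unique (conj_inv_sq ha hb) hb ?_
    rw [map_mul, map_mul, hab, mul_assoc, ← map_mul, ha, map_one, mul_one]
  calc a * b = a * b * (a * a) := by rw [ha, mul_one]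
    _ = (a * b * a) * a := by simp only [mul_assoc]
    _ = b * a := by rw [h1]

/-- Braided involutions lift to braided involutions. -/
theorem OExt.braid (h : OExt π) {a b : E} (ha : a * a = 1) (hb : b * b = 1)
    (hab : π a * π b * π a = π b * π a * π b) : a * b * a = b * a * b := by
  refine h.unique (conj_inv_sq ha hb) (conj_inv_sq hb ha) ?_
  simp only [map_mul, hab]

/-- A perfect central extension with kernel a `p`-group, `p` odd. -/
theorem oext_of_pce [Finite E] (h : PCE π) {p : ℕ} (hp : p.Prime) (h2 : p ≠ 2) (hk : IsPGroup p π.ker) :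
    OExt π where
  surj := h.surj
  cen := fun k hk => h.comm hk
  odd := by
    haveI : Fact p.Prime := ⟨hp⟩
    obtain ⟨m, hm⟩ := hk.exists_card_eq
    have ho : Odd (Nat.card π.ker) := by
      rw [hm]
      exact (hp.odd_of_ne_two h2).pow
    obtain ⟨n, hn⟩ := ho
    refine ⟨n, fun k hk => ?_⟩
    rw [← hn]
    have := pow_card_eq_one' (x := (⟨k, hk⟩ : π.ker))
    exact congrArg Subtype.val this

/-- A homomorphic section of the quotient of a perfect central extension by a subgroup of the kernel: `q : E →* D`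
kills only kernel elements, `σ : P →* D` inverts `π` modulo `q`; then the kernel is the kernel of `q`. -/
theorem ker_le_of_section (h : PCE π) {D : Type*} [Group D] (q : E →* D) (σ : P →* D)
    (hs : ∀ x, ∃ k, π k = 1 ∧ q x = q k * σ (π x)) : π.ker ≤ q.ker := by
  have hc : ∀ g : E, ∀ k, π k = 1 → q k * q g = q g * q k := fun g k hk => by
    rw [← map_mul, ← map_mul, h.comm hk]
  have key : ∀ a : E, ∃ k, π k = 1 ∧ q a * (σ (π a))⁻¹ = q k := by
    intro a
    obtain ⟨k, hk, hk'⟩ := hs a
    exact ⟨k, hk, by rw [hk', mul_inv_cancel_right]⟩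
  -- `σ (π a)` commutes with the elements `q k`
  have hcs : ∀ a : E, ∀ k, π k = 1 → q k * (σ (π a))⁻¹ = (σ (π a))⁻¹ * q k := by
    intro a k hk
    obtain ⟨l, hl, hl'⟩ := hs a
    have e : σ (π a) = (q l)⁻¹ * q a := by rw [hl', inv_mul_cancel_left]
    have e1 : q k * σ (π a) = σ (π a) * q k := by
      rw [e]
      calc q k * ((q l)⁻¹ * q a) = (q l)⁻¹ * (q l * q k) * ((q l)⁻¹ * q a) := by rw [inv_mul_cancel_left]
        _ = (q l)⁻¹ * (q k * q l) * ((q l)⁻¹ * q a) := by rw [hc l k hk]
        _ = (q l)⁻¹ * (q k * q a) := by group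
        _ = (q l)⁻¹ * q a * q k := by rw [hc a k hk, mul_assoc]
    calc q k * (σ (π a))⁻¹ = (σ (π a))⁻¹ * (σ (π a) * q k) * (σ (π a))⁻¹ := by rw [inv_mul_cancel_left]
      _ = (σ (π a))⁻¹ * (q k * σ (π a)) * (σ (π a))⁻¹ := by rw [e1]
      _ = (σ (π a))⁻¹ * q k := by group
  -- `ρ g = q g * (σ (π g))⁻¹` is a homomorphism with commutative image
  let ρ : E →* D := MonoidHom.mk' (fun g => q g * (σ (π g))⁻¹) (fun a b => by
    obtain ⟨k, hk, e⟩ := key b
    rw [map_mul, map_mul, map_mul, mul_inv_rev]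
    calc q a * q b * ((σ (π b))⁻¹ * (σ (π a))⁻¹) = q a * (q b * (σ (π b))⁻¹ * (σ (π a))⁻¹) := by
          simp only [mul_assoc]
      _ = q a * (q k * (σ (π a))⁻¹) := by rw [e]
      _ = q a * ((σ (π a))⁻¹ * q k) := by rw [hcs a k hk]
      _ = q a * (σ (π a))⁻¹ * (q b * (σ (π b))⁻¹) := by rw [e, mul_assoc])
  have hρ : ∀ a, ρ a = q a * (σ (π a))⁻¹ := fun a => rfl
  have hρc : ∀ a b : E, ρ a * ρ b = ρ b * ρ a := by
    intro a b
    obtain ⟨k, hk, hk'⟩ := key a
    obtain ⟨l, hl, hl'⟩ := key b
    rw [hρ, hρ, hk', hl', hc _ _ hk]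
  have hρ1 : commutator E ≤ ρ.ker := by
    rw [commutator_def, Subgroup.commutator_le]
    intro a _ b _
    rw [MonoidHom.mem_ker, map_commutatorElement, commutatorElement_def, hρc a b]
    group
  intro k hk
  have h1 : k ∈ ρ.ker := hρ1 (by rw [h.perf]; exact Subgroup.mem_top k)
  have h2 : q k * (σ (π k))⁻¹ = 1 := h1
  rw [MonoidHom.mem_ker.1 hk, map_one, inv_one, mul_one] at h2
  exact h2

end Cfsg.Agent.H52.OddLift
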