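import Cfsg.Agent.H998.StrP.Basic

/-!
# Strongly `p`-embedded subgroups: a generation criterion

Let `N` be a normal subgroup of `Γ`.  Two nontrivial `p`-elements of `N` are linked if there is a chain of pairwise
commuting nontrivial `p`-elements of `N` between them.  `Stab N p x` is the group of the elements of `Γ` moving `x` to
an element linked to `x`; it contains everything commuting with an element linked to `x`.

* `noSP_of_link` : if `Stab N p x = Γ` and `N` is simple, then `N` has no strongly `p`-embedded subgroup.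
-/

set_option autoImplicit false

namespace Cfsg.Agent.H52.StrLink

open Cfsg Subgroup Cfsg.Agent.EvenType.StrongP Cfsg.Agent.H998.StrP

section

variable {Γ : Type*} [Group Γ] (N : Subgroup Γ) (p : ℕ)

/-- The nontrivial `p`-elements of `N`. -/
def El (x : Γ) : Prop := x ∈ N ∧ x ≠ 1 ∧ ∃ k, x ^ p ^ k = 1

/-- Commuting nontrivial `p`-elements of `N`. -/
def Adj (x y : Γ) : Prop := El N p x ∧ El N p y ∧ Commute x y

/-- Linked nontrivial `p`-elements of `N`. -/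
def Lk : Γ → Γ → Prop := Relation.ReflTransGen (Adj N p)

variable {N p}

theorem Lk.refl (x : Γ) : Lk N p x x := Relation.ReflTransGen.refl

theorem Lk.symm {x y : Γ} (h : Lk N p x y) : Lk N p y x := by
  induction h with
  | refl => exact Relation.ReflTransGen.refl
  | tail _ h2 ih => exact Relation.ReflTransGen.head ⟨h2.2.1, h2.1, h2.2.2.symm⟩ ih

theorem Lk.trans {x y z : Γ} (h : Lk N p x y) (h' : Lk N p y z) : Lk N p x z := Relation.ReflTransGen.trans h h'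

theorem Lk.single {x y : Γ} (hx : El N p x) (hy : El N p y) (h : Commute x y) : Lk N p x y :=
  Relation.ReflTransGen.single ⟨hx, hy, h⟩

theorem El.conj [N.Normal] {x : Γ} (h : El N p x) (g : Γ) : El N p (g * x * g⁻¹) := by
  obtain ⟨h1, h2, k, hk⟩ := h
  refine ⟨Subgroup.Normal.conj_mem inferInstance x h1 g, ?_, k, ?_⟩
  · rwa [Ne, conj_eq_one_iff]
  · rw [conj_pow, hk, mul_one, mul_inv_cancel]

theorem commute_conj {x y : Γ} (h : Commute x y) (g : Γ) : Commute (g * x * g⁻¹) (g * y * g⁻¹) := by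
  have h1 := h.map (MulAut.conj g).toMonoidHom
  simpa [MulAut.conj_apply] using h1

theorem Lk.conj [N.Normal] {x y : Γ} (h : Lk N p x y) (g : Γ) : Lk N p (g * x * g⁻¹) (g * y * g⁻¹) := by
  induction h with
  | refl => exact Lk.refl _
  | tail _ h2 ih => exact ih.trans (Lk.single (h2.1.conj g) (h2.2.1.conj g) (commute_conj h2.2.2 g))

variable (N p) in
/-- The elements moving `x` to an element linked to `x`. -/
def Stab [N.Normal] (x : Γ) : Subgroup Γ where
  carrier := {g | Lk N p x (g * x * g⁻¹)}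
  one_mem' := by
    show Lk N p x (1 * x * 1⁻¹)
    rw [one_mul, inv_one, mul_one]
    exact Lk.refl x
  mul_mem' := by
    intro a b (ha : Lk N p x (a * x * a⁻¹)) (hb : Lk N p x (b * x * b⁻¹))
    show Lk N p x (a * b * x * (a * b)⁻¹)
    have h := hb.conj a
    have e : a * (b * x * b⁻¹) * a⁻¹ = a * b * x * (a * b)⁻¹ := by group
    rw [e] at h
    exact ha.trans h
  inv_mem' := by
    intro a (ha : Lk N p x (a * x * a⁻¹))
    show Lk N p x (a⁻¹ * x * a⁻¹⁻¹)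
    have h := ha.conj a⁻¹
    have e : a⁻¹ * (a * x * a⁻¹) * a⁻¹⁻¹ = x := by group
    rw [e] at h
    exact h.symm

theorem mem_Stab [N.Normal] {x g : Γ} : g ∈ Stab N p x ↔ Lk N p x (g * x * g⁻¹) := Iff.rfl

theorem mem_of_commute [N.Normal] {x y g : Γ} (h : Lk N p x y) (hg : Commute g y) : g ∈ Stab N p x := by
  rw [mem_Stab]
  have h1 := h.conj g
  have e : g * y * g⁻¹ = y := by rw [hg.eq, mul_inv_cancel_right]
  rw [e] at h1
  exact h.trans h1.symm

theorem lk_conj_of_mem [N.Normal] {x y g : Γ} (h : Lk N p x y) (hg : g ∈ Stab N p x) : Lk N p x (g * y * g⁻¹) :=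
  (mem_Stab.1 hg).trans (h.conj g)

theorem Stab_eq_of_lk [N.Normal] {x y : Γ} (h : Lk N p x y) : Stab N p x = Stab N p y := by
  ext g
  rw [mem_Stab, mem_Stab]
  constructor
  · intro h1
    exact h.symm.trans (h1.trans (h.conj g))
  · intro h1
    exact h.trans (h1.trans (h.conj g).symm)

/-- **The generation criterion.** -/
theorem noSP_of_link [Finite Γ] [N.Normal] [IsSimpleGroup ↥N] [hp : Fact p.Prime] {x : Γ} (hx : El N p x)
    (h : Stab N p x = ⊤) : NoSP p ↥N := by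
  intro H hH
  have hn := normIn hH
  obtain ⟨h1, h2, P₀, hP₀⟩ := hH
  have hPH : (P₀ : Subgroup ↥N) ≤ H := sylow_le h1 hP₀
  -- closure of `H` under the relation
  have key : ∀ a b : Γ, Adj N p a b → (∀ ha : a ∈ N, (⟨a, ha⟩ : ↥N) ∈ H) → ∀ hb : b ∈ N, (⟨b, hb⟩ : ↥N) ∈ H := by
    rintro a b ⟨⟨ha, ha1, k, hk⟩, -, hc⟩ hmem hb
    have hZ : IsPGroup p ↥(zpowers (⟨a, ha⟩ : ↥N)) := by
      rw [IsPGroup.iff_card]
      have h3 : orderOf (⟨a, ha⟩ : ↥N) ∣ p ^ k := by
        rw [Subgroup.orderOf_mk]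
        exact orderOf_dvd_of_pow_eq_one hk
      obtain ⟨j, _, hj⟩ := (Nat.dvd_prime_pow hp.out).1 h3
      exact ⟨j, by rw [Nat.card_zpowers, hj]⟩
    refine hn _ hZ ?_ ?_ ?_
    · rw [zpowers_le]
      exact hmem ha
    · rw [Ne, zpowers_eq_bot]
      intro h0
      exact ha1 (congrArg Subtype.val h0)
    · rw [mem_normalizer_iff]
      have hc' : Commute (⟨b, hb⟩ : ↥N) ⟨a, ha⟩ := Subtype.ext hc.symm.eq
      intro y
      constructor
      · rintro ⟨i, rfl⟩
        refine ⟨i, ?_⟩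
        have h4 : Commute (⟨b, hb⟩ : ↥N) (⟨a, ha⟩ ^ i) := hc'.zpow_right i
        show (⟨a, ha⟩ : ↥N) ^ i = ⟨b, hb⟩ * ⟨a, ha⟩ ^ i * (⟨b, hb⟩)⁻¹
        rw [h4.eq, mul_inv_cancel_right]
      · rintro ⟨i, hi⟩
        refine ⟨i, ?_⟩
        have h4 : Commute (⟨b, hb⟩ : ↥N) (⟨a, ha⟩ ^ i) := hc'.zpow_right i
        have hi' : (⟨a, ha⟩ : ↥N) ^ i = ⟨b, hb⟩ * y * (⟨b, hb⟩)⁻¹ := hi
        show (⟨a, ha⟩ : ↥N) ^ i = y
        have h5 : y = (⟨b, hb⟩)⁻¹ * (⟨a, ha⟩ : ↥N) ^ i * ⟨b, hb⟩ := by rw [hi']; group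
        rw [h5, mul_assoc, ← h4.eq, inv_mul_cancel_left]
  have key' : ∀ a b : Γ, Lk N p a b → (∀ ha : a ∈ N, (⟨a, ha⟩ : ↥N) ∈ H) → ∀ hb : b ∈ N, (⟨b, hb⟩ : ↥N) ∈ H := by
    intro a b hab
    induction hab with
    | refl => exact id
    | tail _ hs ih => exact fun ha => key _ _ hs (ih ha)
  -- a conjugate of `x` in `H`
  obtain ⟨hxN, hx1, k, hk⟩ := hx
  have hZ : IsPGroup p ↥(zpowers (⟨x, hxN⟩ : ↥N)) := by
    rw [IsPGroup.iff_card]
    have h3 : orderOf (⟨x, hxN⟩ : ↥N) ∣ p ^ k := by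
      rw [Subgroup.orderOf_mk]
      exact orderOf_dvd_of_pow_eq_one hk
    obtain ⟨j, _, hj⟩ := (Nat.dvd_prime_pow hp.out).1 h3
    exact ⟨j, by rw [Nat.card_zpowers, hj]⟩
  obtain ⟨S, hS⟩ := hZ.exists_le_sylow
  obtain ⟨g, hg⟩ := MulAction.exists_smul_eq ↥N S P₀
  have hgx : g * ⟨x, hxN⟩ * g⁻¹ ∈ H := by
    apply hPH
    rw [← hg, Sylow.coe_subgroup_smul]
    exact ⟨⟨x, hxN⟩, hS (mem_zpowers _), rfl⟩
  have hall : ∀ y : Γ, (hy : y * x * y⁻¹ ∈ N) → (⟨y * x * y⁻¹, hy⟩ : ↥N) ∈ H := by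
    intro y hy
    have h3 : Lk N p x (y * x * y⁻¹) := by
      rw [← mem_Stab, h]; trivial
    have h4 : Lk N p x ((g : Γ) * x * (g : Γ)⁻¹) := by
      rw [← mem_Stab, h]; trivial
    exact key' _ _ (h4.symm.trans h3) (fun _ => hgx) hy
  -- the normal closure of `x`
  have hnc : Subgroup.normalClosure {(⟨x, hxN⟩ : ↥N)} ≤ H := by
    rw [Subgroup.normalClosure, Subgroup.closure_le]
    intro y hy
    rw [Group.mem_conjugatesOfSet_iff] at hy
    obtain ⟨a, ha, hay⟩ := hy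
    rw [Set.mem_singleton_iff] at ha
    subst ha
    obtain ⟨c, hc⟩ := isConj_iff.1 hay
    rw [← hc]
    exact hall (c : Γ) (c * ⟨x, hxN⟩ * c⁻¹).2
  rcases (Subgroup.normalClosure_normal (s := {(⟨x, hxN⟩ : ↥N)})).eq_bot_or_eq_top with h5 | h5
  · have h6 : (⟨x, hxN⟩ : ↥N) ∈ Subgroup.normalClosure {(⟨x, hxN⟩ : ↥N)} :=
      Subgroup.subset_normalClosure (Set.mem_singleton _)
    rw [h5, Subgroup.mem_bot] at h6
    exact hx1 (congrArg Subtype.val h6)
  · rw [h5, top_le_iff] at hnc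
    exact h2 hnc

end

end Cfsg.Agent.H52.StrLink
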