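import Cfsg.Agent.H843.Pat
import Cfsg.Agent.H52.StrLink
import Cfsg.Agent.H998.StrP.PureRows

/-!
# `Fi24'` has no strongly `5`-embedded and no strongly `7`-embedded subgroup

The generation criterion `StrLink.noSP_of_link` inside `Fi24 = Fi24':2`, generated by its twelve transpositions
`l k a b c d e f g j h i` (Coxeter graph `Y₅₄₂`).

* `p = 5` : `l k a b` and `e f g j` are commuting elements of order 5, every generator commutes with one of them.
* `p = 7` : `x = l k a b c d` commutes with a group `S₇` containing `f`, `g`, `j`, `i`; for a suitable element `z` of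
  order 7 of this `S₇` the transpositions commuting with `x z` and those commuting with `x` generate `Fi24`.
-/

set_option autoImplicit false
set_option maxRecDepth 100000
set_option linter.constructorNameAsVariable false

namespace Cfsg.Agent.H52.StrFi24

open Cfsg Cfsg.Agent.Lib.PermNet Cfsg.Agent.Lib.PermNetPt Cfsg.Agent.Fischer.Fi24RepDef Cfsg.Agent.Fischer.Fi24Rep
open Cfsg.Agent.Fischer.Fi24Spider (word_append word_cons word_nil)
open Cfsg.Agent.Fischer.Fi24Final (sgn sgn_gen gens_top)
open Cfsg.Agent.KFacts.FiTF.Pts Cfsg.Agent.KFacts.FiTF.FixMask Cfsg.Agent.H843.Pat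
open Cfsg.Agent.KFacts.FiTF.Defs (tr)
open Cfsg.Spor (Fi24)
open Cfsg.Spor.Fi24 (Gen)
open Cfsg.Agent.H52.StrLink Cfsg.Agent.H998.StrP

theorem sgn_word (w : List Gen) : sgn (word w) = (-1) ^ w.length := by
  induction w with
  | nil => rw [word_nil, map_one]; rfl
  | cons x w ih =>
    rw [word_cons, map_mul, ih, List.length_cons, pow_succ']
    congr 1

theorem word_mem {w : List Gen} (h : Even w.length) : word w ∈ commutator Fi24 := by
  rw [Cfsg.Agent.R08.FiTwentyFour.mem_commutator_iff, sgn_word, h.neg_one_pow]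

theorem word_ne_one {w : List Gen} {a b : ℕ} (hc : chkPt (nw w false) a b = true) (hab : a ≠ b) : word w ≠ 1 := by
  intro h
  have h1 := rho_of_chkPt hc
  rw [h, map_one] at h1
  exact hab h1

/-- A product of transpositions is a nontrivial `p`-element. -/
theorem el_word {w : List Gen} {p a b : ℕ} (h : Even w.length) (hc : chkPt (nw w false) a b = true) (hab : a ≠ b)
    (hp : word w ^ p = 1) : El (commutator Fi24) p (word w) :=
  ⟨word_mem h, word_ne_one hc hab, 1, by rw [pow_one]; exact hp⟩

theorem pow_eq_one_of {w : List Gen} {n : ℕ} (h : chkEq (rep n w) [] = true) : word w ^ n = 1 := by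
  rw [← word_rep]
  exact (word_eq_of h).trans word_nil

section

variable {p : ℕ} {x y : Fi24}

/-- transpositions commuting with an element linked to `x` -/
theorem mem_of_pt (hl : Lk (commutator Fi24) p x y) {d : Fi24} {a : ℕ} (ha : IsPt d a) (h : rho y a = a) :
    d ∈ Stab (commutator Fi24) p x := mem_of_commute hl ((com ha y).2 h).symm

/-- moving a transposition along a path -/
theorem mem_of_path {S : Subgroup Fi24} {d t : Fi24} {a b : ℕ} (hd : IsPt d b) (ht : IsPt t a) (h : t ∈ S)
    {ws : List (List Gen)} (hw : ∀ w ∈ ws, word w ∈ S) (hc : chkPt (nw ws.flatten false) a b = true) : d ∈ S := by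
  have h1 : word ws.flatten ∈ S := by
    clear hc
    induction ws with
    | nil => rw [List.flatten_nil, word_nil]; exact S.one_mem
    | cons w ws ih =>
      rw [List.flatten_cons, word_append]
      exact S.mul_mem (hw w (by simp)) (ih fun v hv => hw v (by simp [hv]))
  rw [← ht.conj_eq hd (rho_of_chkPt hc)]
  exact S.mul_mem (S.mul_mem h1 h) (S.inv_mem h1)

theorem top_of_gens {S : Subgroup Fi24} (h : ∀ s : Gen, gen s ∈ S) : S = ⊤ := by
  rw [eq_top_iff, ← gens_top, Subgroup.closure_le]
  rintro _ ⟨s, rfl⟩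
  exact h s

theorem word_single (s : Gen) : word [s] = gen s := by rw [word_cons, word_nil, mul_one]

end

/-- the final step -/
theorem noSP_of_stab {p : ℕ} [hp : Fact p.Prime] {x : Fi24} (hx : El (commutator Fi24) p x)
    (h : ∀ s : Gen, gen s ∈ Stab (commutator Fi24) p x) {G : Type*} [Group G] [Finite G]
    (hG : Cfsg.Spor.IsoFi24' G) : NoSP p G := by
  have := Cfsg.Agent.R08.FiTwentyFour.finite_Fi24
  have hs : IsSimpleGroup ↥(commutator Fi24) := Cfsg.Agent.R08.FiTwentyFour.isFi24'.1
  obtain ⟨e⟩ := hG
  exact (noSP_of_link hx (top_of_gens h)).congr e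

/-! ### `p = 5` -/

def x5 : List Gen := [.l, .k, .a, .b]
def y5 : List Gen := [.e, .f, .g, .j]

theorem nosp_fi24p_5 {G : Type*} [Group G] [Finite G] (h : Cfsg.Spor.IsoFi24' G) : NoSP 5 G := by
  have := fact5
  have hx : El (commutator Fi24) 5 (word x5) :=
    el_word (by decide) (a := 0) (b := 307872) (by decide +kernel) (by decide) (pow_eq_one_of (by decide +kernel))
  have hy : El (commutator Fi24) 5 (word y5) :=
    el_word (by decide) (a := 3) (b := 676) (by decide +kernel) (by decide) (pow_eq_one_of (by decide +kernel))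
  have hc : Commute (word x5) (word y5) := by
    have h1 := word_eq_of (u := x5 ++ y5) (v := y5 ++ x5) (by decide +kernel)
    rw [word_append, word_append] at h1
    exact h1
  have hl := Lk.single hx hy hc
  have cx : ∀ s : Gen, rho (word x5) (pn s) = pn s → gen s ∈ Stab (commutator Fi24) 5 (word x5) :=
    fun s hs => mem_of_pt (Lk.refl _) (isPt_gen s) hs
  have cy : ∀ s : Gen, rho (word y5) (pn s) = pn s → gen s ∈ Stab (commutator Fi24) 5 (word x5) :=
    fun s hs => mem_of_pt hl (isPt_gen s) hs
  refine noSP_of_stab hx (fun s => ?_) h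
  cases s
  case l => exact cy .l (rho_of_chkPt (by decide +kernel))
  case k => exact cy .k (rho_of_chkPt (by decide +kernel))
  case a => exact cy .a (rho_of_chkPt (by decide +kernel))
  case b => exact cy .b (rho_of_chkPt (by decide +kernel))
  case c => exact cy .c (rho_of_chkPt (by decide +kernel))
  case d => exact cx .d (rho_of_chkPt (by decide +kernel))
  case e => exact cx .e (rho_of_chkPt (by decide +kernel))
  case f => exact cx .f (rho_of_chkPt (by decide +kernel))
  case g => exact cx .g (rho_of_chkPt (by decide +kernel))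
  case j => exact cx .j (rho_of_chkPt (by decide +kernel))
  case h => exact cx .h (rho_of_chkPt (by decide +kernel))
  case i => exact cx .i (rho_of_chkPt (by decide +kernel))

/-! ### `p = 7` -/

def x7 : List Gen := [.l, .k, .a, .b, .c, .d]

def u117 : List Gen := [.e, .d, .h, .c, .d, .e, .b, .c, .d, .h, .f, .g, .e, .f, .d, .e, .c, .d, .h, .j, .g, .f, .e, .d, .c]
def u226263 : List Gen := [.e, .f, .d, .e, .c, .d, .h, .i, .e, .f, .d, .e, .c, .d, .h, .d, .e, .f, .b, .c, .d, .e, .a, .b, .c, .d, .h, .i, .f, .c, .d, .e, .b, .c, .d, .h, .j, .g, .f, .e, .d, .c, .b, .a]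
def u113957 : List Gen := [.f, .e, .d, .h, .f, .g, .c, .d, .e, .f, .b, .c, .d, .e, .a, .b, .c, .d, .h, .i, .e, .f, .d, .e, .b, .c, .d, .h, .j, .g, .f, .e, .d, .c, .b, .a]
def u61710 : List Gen := [.e, .c, .d, .h, .f, .g, .e, .f, .c, .d, .e, .b, .c, .d, .h, .i, .g, .f, .c, .d, .e, .b, .c, .d, .h, .j, .g, .f, .e, .d, .c, .b, .a, .k]
def u176748 : List Gen := [.g, .f, .e, .d, .h, .i, .f, .e, .c, .d, .h, .e, .f, .g, .d, .e, .f, .c, .d, .e, .b, .c, .d, .h, .i, .f, .d, .e, .b, .c, .d, .h, .j, .g, .f, .e, .d, .c, .b, .a]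
def u8662 : List Gen := [.d, .e, .b, .c, .d, .h, .f, .g, .e, .f, .b, .c, .d, .e, .a, .b, .c, .d, .h, .i, .g, .f, .c, .d, .e, .b, .c, .d, .h, .j, .g, .f, .e, .d, .c, .b]
def u174507 : List Gen := [.c, .d, .e, .a, .b, .c, .d, .h, .f, .g, .e, .f, .a, .b, .c, .d, .e, .k, .a, .b, .c, .d, .h, .i, .g, .f, .c, .d, .e, .b, .c, .d, .h, .j, .g, .f, .e, .d, .c, .b, .a]
def u147272 : List Gen := [.d, .h, .i, .h, .d, .e, .c, .d, .h, .f, .g, .e, .f, .c, .d, .e, .b, .c, .d, .h, .i, .f, .c, .d, .e, .b, .c, .d, .h, .j, .g, .f, .e, .d, .c, .b, .a, .k]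

def t117 : List Gen := u117 ++ .b :: u117.reverse
def t226263 : List Gen := u226263 ++ .k :: u226263.reverse
def t113957 : List Gen := u113957 ++ .k :: u113957.reverse
def t61710 : List Gen := u61710 ++ .l :: u61710.reverse
def t8662 : List Gen := u8662 ++ .a :: u8662.reverse

/-- an element of order 7 commuting with `x7` -/
def z7 : List Gen := t117 ++ ([.f, .g, .j] ++ (t226263 ++ [.i]))

theorem x7_pow : word x7 ^ 7 = 1 := pow_eq_one_of (by decide +kernel)
theorem z7_pow : word z7 ^ 7 = 1 := pow_eq_one_of (by decide +kernel)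

theorem nosp_fi24p_7 {G : Type*} [Group G] [Finite G] (h : Cfsg.Spor.IsoFi24' G) : NoSP 7 G := by
  have := fact7
  have hx : El (commutator Fi24) 7 (word x7) :=
    el_word (by decide) (a := 0) (b := 307872) (by decide +kernel) (by decide) x7_pow
  set S := Stab (commutator Fi24) 7 (word x7) with hS
  have cx : ∀ {d : Fi24} {a : ℕ}, IsPt d a → rho (word x7) a = a → Commute d (word x7) ∧ d ∈ S :=
    fun hd hs => ⟨((com hd _).2 hs).symm, mem_of_pt (Lk.refl _) hd hs⟩
  -- transpositions commuting with `x7`
  have hf := cx (isPt_gen .f) (rho_of_chkPt (by decide +kernel))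
  have hg := cx (isPt_gen .g) (rho_of_chkPt (by decide +kernel))
  have hj := cx (isPt_gen .j) (rho_of_chkPt (by decide +kernel))
  have hi := cx (isPt_gen .i) (rho_of_chkPt (by decide +kernel))
  have h4 := cx (isPt_tr (u := u117) (x := .b) (p := 117) (by decide +kernel)) (rho_of_chkPt (by decide +kernel))
  have h5 := cx (isPt_tr (u := u226263) (x := .k) (p := 226263) (by decide +kernel)) (rho_of_chkPt (by decide +kernel))
  have hz : Commute (word x7) (word z7) := by
    have e : word z7 = tr u117 .b * ((gen .f * gen .g * gen .j) * (tr u226263 .k * gen .i)) := by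
      unfold z7
      rw [word_append, word_append, word_append, word_single, word_cons, word_cons, word_single, mul_assoc (gen .f)]
      rfl
    rw [e]
    exact h4.1.symm.mul_right (((hf.1.symm.mul_right hg.1.symm).mul_right hj.1.symm).mul_right
      (h5.1.symm.mul_right hi.1.symm))
  -- the second element
  have hy : El (commutator Fi24) 7 (word (x7 ++ z7)) := by
    refine el_word (by decide) (a := 0) (b := 226526) (by decide +kernel) (by decide) ?_
    rw [word_append, hz.mul_pow, x7_pow, z7_pow, one_mul]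
  have hl : Lk (commutator Fi24) 7 (word x7) (word (x7 ++ z7)) := by
    refine Lk.single hx hy ?_
    rw [word_append]
    exact (Commute.refl _).mul_right hz
  have cy : ∀ {d : Fi24} {a : ℕ}, IsPt d a → rho (word (x7 ++ z7)) a = a → d ∈ S :=
    fun hd hs => mem_of_pt hl hd hs
  have p1 := isPt_tr (u := u113957) (x := .k) (p := 113957) (by decide +kernel)
  have p2 := isPt_tr (u := u61710) (x := .l) (p := 61710) (by decide +kernel)
  have p3 := isPt_tr (u := u176748) (x := .k) (p := 176748) (by decide +kernel)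
  have p4 := isPt_tr (u := u8662) (x := .a) (p := 8662) (by decide +kernel)
  have p5 := isPt_tr (u := u174507) (x := .k) (p := 174507) (by decide +kernel)
  have p6 := isPt_tr (u := u147272) (x := .l) (p := 147272) (by decide +kernel)
  have m1 := cy p1 (rho_of_chkPt (by decide +kernel))
  have m2 := cy p2 (rho_of_chkPt (by decide +kernel))
  have m3 := cy p3 (rho_of_chkPt (by decide +kernel))
  have m4 := cy p4 (rho_of_chkPt (by decide +kernel))
  have m5 := cy p5 (rho_of_chkPt (by decide +kernel))
  have m6 := cy p6 (rho_of_chkPt (by decide +kernel))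
  have mf : word [.f] ∈ S := by rw [word_single]; exact hf.2
  have mg : word [.g] ∈ S := by rw [word_single]; exact hg.2
  have mj : word [.j] ∈ S := by rw [word_single]; exact hj.2
  have mi : word [.i] ∈ S := by rw [word_single]; exact hi.2
  have mx : word x7 ∈ S := mem_of_commute (Lk.refl _) (Commute.refl _)
  have mxi : word x7.reverse ∈ S := by rw [word_reverse]; exact S.inv_mem mx
  have ma : gen .a ∈ S := by
    refine mem_of_path (isPt_gen .a) p3 m3 (ws := [t113957, [.g], [.j], t61710, [.i]]) ?_ (by decide +kernel)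
    intro w hw
    simp only [List.mem_cons, List.not_mem_nil, or_false] at hw
    rcases hw with rfl | rfl | rfl | rfl | rfl
    exacts [m1, mg, mj, m2, mi]
  have me : gen .e ∈ S := by
    refine mem_of_path (isPt_gen .e) p5 m5 (ws := [x7.reverse, t8662, [.g], [.j], [.f], t117, [.g], [.f]]) ?_
      (by decide +kernel)
    intro w hw
    simp only [List.mem_cons, List.not_mem_nil, or_false] at hw
    rcases hw with rfl | rfl | rfl | rfl | rfl | rfl | rfl | rfl
    exacts [mxi, m4, mg, mj, mf, h4.2, mg, mf]
  have mh : gen .h ∈ S := by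
    refine mem_of_path (isPt_gen .h) p6 m6 (ws := [x7, [.i], t61710, t117, [.j], [.i]]) ?_ (by decide +kernel)
    intro w hw
    simp only [List.mem_cons, List.not_mem_nil, or_false] at hw
    rcases hw with rfl | rfl | rfl | rfl | rfl | rfl
    exacts [mx, mi, m2, h4.2, mj, mi]
  -- conjugates of `a` by powers of `x7`
  have st : ∀ {s t : Gen}, gen s ∈ S → chkPt (nw x7 false) (pn s) (pn t) = true → gen t ∈ S := fun {s t} hs hc =>
    mem_of_path (isPt_gen t) (isPt_gen s) hs (ws := [x7])
      (by intro w hw; rw [List.mem_singleton] at hw; rw [hw]; exact mx) (by simpa using hc)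
  have st' : ∀ {s t : Gen}, gen s ∈ S → chkPt (nw x7.reverse false) (pn s) (pn t) = true → gen t ∈ S :=
    fun {s t} hs hc => mem_of_path (isPt_gen t) (isPt_gen s) hs (ws := [x7.reverse])
      (by intro w hw; rw [List.mem_singleton] at hw; rw [hw]; exact mxi) (by simpa using hc)
  have mb : gen .b ∈ S := st ma (by decide +kernel)
  have mc : gen .c ∈ S := st mb (by decide +kernel)
  have md : gen .d ∈ S := st mc (by decide +kernel)
  have mk : gen .k ∈ S := st' ma (by decide +kernel)
  have ml : gen .l ∈ S := st' mk (by decide +kernel)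
  refine noSP_of_stab hx (fun s => ?_) h
  cases s
  exacts [ml, mk, ma, mb, mc, md, me, hf.2, hg.2, hj.2, mh, hi.2]

end Cfsg.Agent.H52.StrFi24
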