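import Cfsg.Agent.H652.Four.Base
import Cfsg.Agent.H707.GalTrace
import Cfsg.Agent.SmallSimple.PrimeFusion
import Cfsg.Agent.SmallSimple.BurnsideNC

/-!
# Tools for `Loc` (Four)

* `nn_of_hasSplit` : a group with split (B,N)-pair of characteristic two, with Sylow 2-subgroups of
  order 64, at an element of order five with centraliser of odd order at most 16;
* `nn_lift` : from a central quotient of `C(V)` by a 2-group up to `G`;
* `four_dvd_index` : `4 ∣ |G : C(x)|`.
* `loc_of` : everything together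
-/

set_option autoImplicit false

namespace Cfsg.Agent.H52.FourTool

open Cfsg Subgroup
open Cfsg.Agent.Characters.Core
open Cfsg.Agent.Blocks Cfsg.Agent.Blocks.LocalRing
open Cfsg.Agent.H652.Four

universe u v

/-- All elements of order `p` of a group with Sylow `p`-subgroups of order `p` and `|N : C| = p - 1` are
conjugate. -/
theorem isConj_of_orderOf {H : Type u} [Group H] [Finite H] {p : ℕ} [hp : Fact p.Prime] {P : Subgroup H}
    (hP : Nat.card P = p) (hp2 : ¬ p ^ 2 ∣ Nat.card H)
    (he : (centralizer (P : Set H)).relIndex (normalizer (P : Set H)) = p - 1) {a b : H}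
    (ha : orderOf a = p) (hb : orderOf b = p) : IsConj a b := by
  have key : ∀ a : H, orderOf a = p → ∃ g : H, g * a * g⁻¹ ∈ P := by
    intro a ha
    have hPp : IsPGroup p P := IsPGroup.of_card (n := 1) (by rw [hP, pow_one])
    have hA : IsPGroup p (zpowers a) := IsPGroup.of_card (n := 1) (by rw [Nat.card_zpowers, ha, pow_one])
    have hfac : (Nat.card H).factorization p = 1 := by
      have h1 : p ∣ Nat.card H := hP ▸ Subgroup.card_subgroup_dvd_card P
      have h2 := (Nat.Prime.dvd_iff_one_le_factorization hp.out Nat.card_pos.ne').1 h1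
      have h3 : ¬ 2 ≤ (Nat.card H).factorization p := fun h =>
        hp2 ((hp.out.pow_dvd_iff_le_factorization Nat.card_pos.ne').2 h)
      omega
    obtain ⟨S, hS⟩ := hPp.exists_le_sylow
    obtain ⟨T, hT⟩ := hA.exists_le_sylow
    have hSP : P = S := by
      apply Subgroup.eq_of_le_of_card_ge hS
      rw [S.card_eq_multiplicity, hfac, hP, pow_one]
    obtain ⟨g, hg⟩ := MulAction.exists_smul_eq H T S
    refine ⟨g, ?_⟩
    rw [hSP, ← hg]
    rw [Sylow.coe_subgroup_smul, Subgroup.mem_pointwise_smul_iff_inv_smul_mem]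
    have h4 : (MulAut.conj g)⁻¹ • (g * a * g⁻¹) = a := by
      rw [MulAut.smul_def, MulAut.conj_inv_apply]
      group
    rw [h4]
    exact hT (mem_zpowers a)
  obtain ⟨g, hg⟩ := key a ha
  obtain ⟨k, hk⟩ := key b hb
  have hne : ∀ (g a : H), orderOf a = p → g * a * g⁻¹ ≠ 1 := by
    intro g a ha h
    have h1 : a = 1 := by
      have : a = g⁻¹ * (g * a * g⁻¹) * g := by group
      rw [this, h]
      group
    rw [h1, orderOf_one] at ha
    exact hp.out.one_lt.ne ha
  obtain ⟨n, -, hn⟩ := SmallSimple.PrimeFusion.exists_conj hP he hg (hne g a ha) hk (hne k b hb)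
  refine isConj_iff.2 ⟨k⁻¹ * n * g, ?_⟩
  have : b = k⁻¹ * (k * b * k⁻¹) * k := by group
  rw [this, ← hn]
  group

/-- the defect zero character of a group with split (B,N)-pair, at an element of order five -/
theorem nn_of_hasSplit {H : Type u} [Group H] [Finite H] (h : FixBN.HasSplit 2 H)
    {P : Subgroup H} (hP : Nat.card P = 5)
    (he : (centralizer (P : Set H)).relIndex (normalizer (P : Set H)) = 4)
    {x : H} (hx : x ∈ P) (hx1 : x ≠ 1) {j : ℕ} (hi : (centralizer ({x} : Set H)).index = 64 * j)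
    (hj : ¬ 2 ∣ j) (hc : Nat.card (centralizer ({x} : Set H)) ≤ 16)
    (hc2 : ¬ 2 ∣ Nat.card (centralizer ({x} : Set H))) {M : Ideal AlgInt} (hM : IsPModular 2 M) :
    NN M (cl x) := by
  classical
  have : Fact (Nat.Prime 5) := ⟨by norm_num⟩
  have : Fact (Nat.Prime 2) := ⟨Nat.prime_two⟩
  obtain ⟨χ, h1, h2, h3⟩ := H707.GalTrace.exists_rat_of_hasSplit h
  obtain ⟨v, hv1, hv2, hv3⟩ := SmallSimple.PrimeFusion.exists_val (p := 5) hP he
  have hcardH : Nat.card H = 2 ^ 6 * (j * Nat.card (centralizer ({x} : Set H))) := by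
    rw [← Subgroup.index_mul_card (centralizer ({x} : Set H)), hi]
    ring
  have hodd : ¬ 2 ∣ j * Nat.card (centralizer ({x} : Set H)) := by
    intro h
    rcases (Nat.prime_two.dvd_mul).1 h with h | h
    · exact hj h
    · exact hc2 h
  have hfac : (Nat.card H).factorization 2 = 6 := by
    rw [hcardH, Nat.factorization_mul (by norm_num) (by intro h; rw [h] at hodd; exact hodd (dvd_zero _)),
      Finsupp.add_apply, Nat.Prime.factorization_pow Nat.prime_two, Finsupp.single_eq_same,
      Nat.factorization_eq_zero_of_not_dvd hodd]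
  have hdeg : χ 1 = 64 := by
    obtain ⟨Q⟩ : Nonempty (Sylow 2 H) := inferInstance
    rw [(h3 Q).1, Q.card_eq_multiplicity, hfac]
    norm_num
  set X : IrrCharacter H := ⟨χ, h1⟩ with hX
  set T : IrrCharacter H := ⟨1, isIrr_one⟩ with hT
  have hne : T ≠ X := by
    intro h
    have h4 := congrArg (fun y : IrrCharacter H => (y : H → ℂ) 1) h
    change (1 : ℂ) = χ 1 at h4
    rw [hdeg] at h4
    norm_num at h4
  have hvT : v T = 1 := by
    have h4 := hv1 T x hx hx1
    change (1 : ℂ) = v T at h4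
    exact_mod_cast h4.symm
  have hCx : centralizer ({x} : Set H) = centralizer (P : Set H) :=
    SmallSimple.BlockIndex.centralizer_eq hP hx hx1
  have h5 := hv3 {T, X}
  rw [Finset.sum_pair hne, hvT, ← hCx] at h5
  have h6 : v X ^ 2 ≤ 15 := by
    have : (Nat.card (centralizer ({x} : Set H)) : ℤ) ≤ 16 := by exact_mod_cast hc
    linarith
  have h7 := hv2 X
  have h8 : M23Order.Base.dg X = 64 := by
    have h9 := M23Order.Base.dg_eq X
    change χ 1 = _ at h9
    rw [hdeg] at h9
    exact_mod_cast h9.symm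
  rw [h8] at h7
  have h9 : v X = -1 := by
    have ha : v X ≤ 3 := by nlinarith
    have hb : -3 ≤ v X := by nlinarith
    have h10 := Int.emod_emod_of_dvd (v X) (dvd_refl 5)
    rw [Int.modEq_iff_dvd] at h7
    generalize v X = w at *
    interval_cases w <;> omega
  refine NN.of_int hM X (n := -(j : ℤ)) ?_ ?_
  · rw [Basic.centralChar_def, hi]
    have h10 := hv1 X x hx hx1
    rw [h9] at h10
    rw [h10]
    change _ / χ 1 = _
    rw [hdeg]
    push_cast
    ring
  · intro h
    apply hj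
    rw [Int.dvd_neg] at h
    exact_mod_cast h

/-- **Lifting.** -/
theorem nn_lift {G : Type u} [Group G] [Finite G] {V : Subgroup G} (hV : IsPGroup 2 V)
    (hVC : V ≤ centralizer (V : Set G)) {H : Type*} [Group H] (φ : centralizer (V : Set G) →* H)
    (hφ : Function.Surjective φ) (hker : φ.ker ≤ center _) (hkp : IsPGroup 2 φ.ker)
    {x : centralizer (V : Set G)} {r : ℕ} (hr : r.Prime) (hr2 : r ≠ 2) (hx : orderOf x = r)
    (hconj : ∀ a b : H, orderOf a = r → orderOf b = r → IsConj a b)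
    {M : Ideal AlgInt} (hM : IsPModular 2 M) (h : NN M (cl (φ x))) : NN M (cl (x : G)) := by
  classical
  have hr2' : r.Coprime 2 := (Nat.coprime_primes hr Nat.prime_two).2 hr2
  have hord : ∀ y : centralizer (V : Set G), orderOf y = r → orderOf (φ y) = r := by
    intro y hy
    have h1 : orderOf (φ y) ∣ r := hy ▸ orderOf_map_dvd φ y
    rcases (Nat.dvd_prime hr).1 h1 with h2 | h2
    · exfalso
      have h3 : y ∈ φ.ker := by rw [MonoidHom.mem_ker]; exact orderOf_eq_one_iff.1 h2
      obtain ⟨k, hk⟩ := hkp ⟨y, h3⟩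
      have hk' : y ^ 2 ^ k = 1 := by simpa using congrArg Subtype.val hk
      have h4 : orderOf y ∣ 2 ^ k := orderOf_dvd_of_pow_eq_one hk'
      rw [hy] at h4
      have h5 := Nat.eq_one_of_dvd_coprimes (hr2'.pow_right k) dvd_rfl h4
      exact hr.one_lt.ne' h5
    · exact h2
  have h' : NN M (cl x) :=
    NN.quot_central hφ hker hkp (by rw [hx]; exact hr2') h
  refine NN.brauer hM hV hVC (F := cl (x : G)) (fun g y => cl_conj _ _ _) (fun g => ?_) ?_
  · by_cases hg : IsConj (x : G) g
    · rw [cl_pos hg]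
      exact_mod_cast memLocalRing_natCast hM 1
    · rw [cl_neg hg]
      exact_mod_cast memLocalRing_natCast hM 0
  · have e : (fun y : centralizer (V : Set G) => cl (x : G) (y : G)) = cl x := by
      funext y
      by_cases hy : IsConj x y
      · rw [cl_pos hy, cl_pos]
        exact (centralizer (V : Set G)).subtype.map_isConj hy
      · rw [cl_neg hy, cl_neg]
        intro hc
        apply hy
        have hoy : orderOf y = r := by
          obtain ⟨c, hc⟩ := isConj_iff.1 hc
          rw [← Subgroup.orderOf_coe, ← hc, ← hx, ← Subgroup.orderOf_coe x]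
          exact MulEquiv.orderOf_eq (MulAut.conj c) _
        obtain ⟨d, hd⟩ := isConj_iff.1 (hconj _ _ (hord x hx) (hord y hoy))
        obtain ⟨c, rfl⟩ := hφ d
        have hz : (c * x * c⁻¹)⁻¹ * y ∈ φ.ker := by
          rw [MonoidHom.mem_ker, map_mul, map_inv, map_mul, map_mul, map_inv, hd, inv_mul_cancel]
        have hox : orderOf (c * x * c⁻¹) = r := by
          rw [← hx]
          exact MulEquiv.orderOf_eq (MulAut.conj c) x
        refine isConj_iff.2 ⟨c, ?_⟩
        set w := c * x * c⁻¹ with hw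
        obtain ⟨z, hz', hyz⟩ : ∃ z ∈ φ.ker, y = w * z := ⟨w⁻¹ * y, hz, by group⟩
        have hzc : Commute w z := ((Subgroup.mem_center_iff.1 (hker hz')) w)
        obtain ⟨k, hk⟩ := hkp ⟨z, hz'⟩
        have hk' : z ^ 2 ^ k = 1 := by simpa using congrArg Subtype.val hk
        have h1 : (w * z) ^ r = 1 := by rw [← hyz, ← hoy]; exact pow_orderOf_eq_one _
        rw [hzc.mul_pow, ← hox, pow_orderOf_eq_one, one_mul, hox] at h1
        have h2 : orderOf z ∣ r := orderOf_dvd_of_pow_eq_one h1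
        have h3 : orderOf z ∣ 2 ^ k := orderOf_dvd_of_pow_eq_one hk'
        have h4 : orderOf z = 1 := Nat.eq_one_of_dvd_coprimes (hr2'.pow_right k) h2 h3
        rw [hyz, orderOf_eq_one_iff.1 h4, mul_one]
    rw [e]
    exact h'

/-- `4 ∣ |G : C(x)|` -/
theorem four_dvd_index {G : Type u} [Group G] [Finite G] {V : Subgroup G} (hV : IsPGroup 2 V)
    (hV1 : V ≠ ⊥) (hC : ∀ v ∈ V, v ≠ 1 → centralizer ({v} : Set G) ≤ centralizer (V : Set G))
    {x : G} (hx : x ∈ centralizer (V : Set G))
    (h2 : ∀ g : G, g ∈ centralizer (V : Set G) → g * x = x * g → (∃ k, g ^ 2 ^ k = 1) → g ∈ V)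
    (h4 : 4 * Nat.card V ∣ Nat.card G) : 4 ∣ (centralizer ({x} : Set G)).index := by
  classical
  have : Fact (Nat.Prime 2) := ⟨Nat.prime_two⟩
  set C := centralizer ({x} : Set G) with hCdef
  have hVC : V ≤ C := by
    intro v hv
    rw [hCdef, mem_centralizer_singleton_iff]
    exact (mem_centralizer_iff.1 hx v hv)
  have hV' : IsPGroup 2 (V.subgroupOf C) := hV.comap_subtype
  obtain ⟨T, hT⟩ := hV'.exists_le_sylow
  have hmemT : ∀ g : C, g ∈ (T : Subgroup C) → ∃ k, (g : G) ^ 2 ^ k = 1 := by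
    intro g hg
    obtain ⟨k, hk⟩ := T.isPGroup' ⟨g, hg⟩
    refine ⟨k, ?_⟩
    have := congrArg (fun y : T => ((y : C) : G)) hk
    simpa using this
  obtain ⟨v, hv, hv1⟩ : ∃ v ∈ V, v ≠ 1 := by
    by_contra hcon
    push Not at hcon
    exact hV1 ((Subgroup.eq_bot_iff_forall V).2 hcon)
  have hvT : (⟨v, hVC hv⟩ : C) ∈ (T : Subgroup C) := hT (by rw [mem_subgroupOf]; exact hv)
  have hTn : Nontrivial T := ⟨⟨⟨⟨v, hVC hv⟩, hvT⟩, 1, fun h => hv1 (congrArg (fun y : T => ((y : C) : G)) h)⟩⟩
  have hcn : Nontrivial (center T) := T.isPGroup'.center_nontrivial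
  obtain ⟨⟨⟨z, hzT⟩, hz⟩, hz1⟩ := exists_ne (1 : center T)
  have hzv : (z : G) ∈ centralizer ({v} : Set G) := by
    rw [mem_centralizer_singleton_iff]
    have := (Subgroup.mem_center_iff.1 hz) ⟨⟨v, hVC hv⟩, hvT⟩
    exact (congrArg (fun y : T => ((y : C) : G)) this).symm
  have hzV : (z : G) ∈ V := h2 z (hC v hv hv1 hzv) (mem_centralizer_singleton_iff.1 z.2) (hmemT z hzT)
  have hz1' : (z : G) ≠ 1 := fun h => hz1 (by
    apply Subtype.ext
    apply Subtype.ext
    apply Subtype.ext
    exact h)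
  have hTV : (T : Subgroup C) ≤ V.subgroupOf C := by
    intro g hg
    rw [mem_subgroupOf]
    refine h2 g (hC z hzV hz1' ?_) (mem_centralizer_singleton_iff.1 g.2) (hmemT g hg)
    rw [mem_centralizer_singleton_iff]
    have := (Subgroup.mem_center_iff.1 hz) ⟨g, hg⟩
    exact (congrArg (fun y : T => ((y : C) : G)) this)
  have hcard : Nat.card T = Nat.card V := by
    have h5 : (T : Subgroup C) = V.subgroupOf C := le_antisymm hTV hT
    have h6 : Nat.card (V.subgroupOf C) = Nat.card V := Nat.card_congr (subgroupOfEquivOfLe hVC).toEquiv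
    rw [← h6, ← h5]
  have h5 : Nat.card V * ((T : Subgroup C).index * C.index) = Nat.card G := by
    rw [← hcard, ← mul_assoc, Subgroup.card_mul_index, Subgroup.card_mul_index]
  rw [← h5, mul_comm] at h4
  have h6 : 4 ∣ (T : Subgroup C).index * C.index := Nat.dvd_of_mul_dvd_mul_left Nat.card_pos h4
  have h7 : Nat.Coprime 4 (T : Subgroup C).index := by
    have h8 : ¬ 2 ∣ (T : Subgroup C).index := T.not_dvd_index
    rw [show 4 = 2 ^ 2 by norm_num]
    exact Nat.Coprime.pow_left 2 ((Nat.Prime.coprime_iff_not_dvd Nat.prime_two).2 h8)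
  exact h7.dvd_of_dvd_mul_left h6

theorem relIndex_eq_four {H : Type u} [Group H] [Finite H] {y : H} (hy : orderOf y = 5)
    (h25 : ¬ 5 ^ 2 ∣ Nat.card H) (hi : (centralizer ({y} : Set H)).index % 5 = 4) :
    (centralizer ((zpowers y : Subgroup H) : Set H)).relIndex (normalizer ((zpowers y : Subgroup H) : Set H)) = 4 := by
  have h5 : Fact (Nat.Prime 5) := ⟨by norm_num⟩
  have hP : Nat.card (zpowers y) = 5 := by rw [Nat.card_zpowers, hy]
  have hA : IsPGroup 5 (zpowers y) := IsPGroup.of_card (n := 1) (by rw [hP, pow_one])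
  have hfac : (Nat.card H).factorization 5 = 1 := by
    have h1 : 5 ∣ Nat.card H := hP ▸ Subgroup.card_subgroup_dvd_card (zpowers y)
    have h2 := (Nat.Prime.dvd_iff_one_le_factorization h5.out Nat.card_pos.ne').1 h1
    have h3 : ¬ 2 ≤ (Nat.card H).factorization 5 := fun h =>
      h25 ((h5.out.pow_dvd_iff_le_factorization Nat.card_pos.ne').2 h)
    omega
  obtain ⟨S, hS⟩ := hA.exists_le_sylow
  have hSP : zpowers y = S := by
    apply Subgroup.eq_of_le_of_card_ge hS
    rw [S.card_eq_multiplicity, hfac, hP, pow_one]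
  have hy1 : y ≠ 1 := by
    rintro rfl
    rw [orderOf_one] at hy
    omega
  have hCy : centralizer ({y} : Set H) = centralizer ((zpowers y : Subgroup H) : Set H) :=
    SmallSimple.BlockIndex.centralizer_eq hP (mem_zpowers y) hy1
  have hrel : (centralizer ((S : Subgroup H) : Set H)).relIndex (normalizer ((S : Subgroup H) : Set H)) ∣ 5 - 1 :=
    SmallSimple.BurnsideNC.relIndex_dvd_of_card_eq_prime S (by
      rw [← hSP]; exact hP)
  rw [← hSP] at hrel
  have hle : centralizer ((zpowers y : Subgroup H) : Set H) ≤ normalizer ((zpowers y : Subgroup H) : Set H) :=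
    Subgroup.centralizer_le_normalizer _
  have h6 := Subgroup.relIndex_mul_index hle
  have h7 := card_sylow_modEq_one 5 H
  rw [S.card_eq_index_normalizer] at h7
  change (normalizer ((S : Subgroup H) : Set H)).index ≡ 1 [MOD 5] at h7
  rw [← hSP] at h7
  rw [← hCy] at h6 hrel ⊢
  have h8 : (normalizer ((zpowers y : Subgroup H) : Set H)).index % 5 = 1 := h7
  obtain ⟨c, hc⟩ := hrel
  generalize (centralizer ({y} : Set H)).relIndex (normalizer ((zpowers y : Subgroup H) : Set H)) = d at *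
  rw [← h6, Nat.mul_mod, h8, mul_one, Nat.mod_mod] at hi
  have hd : d ≤ 4 := Nat.le_of_dvd (by norm_num) ⟨c, hc⟩
  omega

/-- **`Loc` from a subgroup `V` with `C(V)/V` a group with split (B,N)-pair.** -/
theorem loc_of {G : Type u} [Group G] [Finite G] {V : Subgroup G} (hV : IsPGroup 2 V) (hV1 : V ≠ ⊥)
    (hVC : V ≤ centralizer (V : Set G))
    (hC : ∀ v ∈ V, v ≠ 1 → centralizer ({v} : Set G) ≤ centralizer (V : Set G))
    {H : Type v} [Group H] [Finite H] (φ : centralizer (V : Set G) →* H)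
    (hφ : Function.Surjective φ) (hker : ∀ g, φ g = 1 → (g : G) ∈ V)
    (hs : FixBN.HasSplit 2 H) (h5 : 5 ∣ Nat.card H) (h25 : ¬ 5 ^ 2 ∣ Nat.card H) {j : ℕ} (hj : ¬ 2 ∣ j)
    (hj5 : (64 * j) % 5 = 4)
    (hy : ∀ y : H, orderOf y = 5 → (centralizer ({y} : Set H)).index = 64 * j ∧
      Nat.card (centralizer ({y} : Set H)) ≤ 16 ∧ ¬ 2 ∣ Nat.card (centralizer ({y} : Set H)))
    (h4 : 4 * Nat.card V ∣ Nat.card G) : Loc G := by
  classical
  have hF5 : Fact (Nat.Prime 5) := ⟨by norm_num⟩
  have hkc : φ.ker ≤ center _ := by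
    intro g hg
    have hgV := hker g (MonoidHom.mem_ker.1 hg)
    rw [Subgroup.mem_center_iff]
    intro h
    exact Subtype.ext (mem_centralizer_iff.1 h.2 g hgV).symm
  have hkp : IsPGroup 2 φ.ker := by
    rintro ⟨g, hg⟩
    obtain ⟨k, hk⟩ := hV ⟨g, hker g (MonoidHom.mem_ker.1 hg)⟩
    refine ⟨k, ?_⟩
    apply Subtype.ext
    apply Subtype.ext
    simpa using congrArg Subtype.val hk
  obtain ⟨y, hyo⟩ := exists_prime_orderOf_dvd_card' 5 h5
  obtain ⟨x0, hx0⟩ := hφ y
  have h1 : x0 ^ 5 ∈ φ.ker := by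
    rw [MonoidHom.mem_ker, map_pow, hx0, ← hyo, pow_orderOf_eq_one]
  obtain ⟨k, hk⟩ := hkp ⟨_, h1⟩
  have hk' : (x0 ^ 5) ^ 2 ^ k = 1 := by simpa using congrArg Subtype.val hk
  set x := x0 ^ 2 ^ k with hxdef
  have hx5 : x ^ 5 = 1 := by
    rw [hxdef, ← pow_mul, mul_comm, pow_mul]
    exact hk'
  have hφx : orderOf (φ x) = 5 := by
    rw [hxdef, map_pow, hx0, Nat.Coprime.orderOf_pow]
    · exact hyo
    · rw [hyo]
      exact Nat.Coprime.pow_right k (by norm_num)
  have hxo : orderOf x = 5 := by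
    refine orderOf_eq_prime hx5 ?_
    intro h
    rw [h, map_one, orderOf_one] at hφx
    omega
  obtain ⟨hi, hc, hc2⟩ := hy _ hφx
  have he := relIndex_eq_four hφx h25 (by rw [hi]; exact hj5)
  have hP : Nat.card (zpowers (φ x)) = 5 := by rw [Nat.card_zpowers, hφx]
  have hφx1 : φ x ≠ 1 := by
    intro h
    rw [h, orderOf_one] at hφx
    omega
  refine ⟨(x : G), ?_, fun M hM => ?_⟩
  · refine four_dvd_index hV hV1 hC x.2 (fun g hg hgx hgk => ?_) h4
    apply hker ⟨g, hg⟩
    obtain ⟨k, hk⟩ := hgk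
    have hgc : φ ⟨g, hg⟩ ∈ centralizer ({φ x} : Set H) := by
      rw [mem_centralizer_singleton_iff, ← map_mul, ← map_mul]
      congr 1
      exact Subtype.ext hgx
    have h2 : orderOf (φ ⟨g, hg⟩) ∣ 2 ^ k := by
      apply orderOf_dvd_of_pow_eq_one
      rw [← map_pow, ← map_one φ]
      congr 1
      exact Subtype.ext hk
    have h3 : orderOf (φ ⟨g, hg⟩) ∣ Nat.card (centralizer ({φ x} : Set H)) :=
      Subgroup.orderOf_dvd_natCard _ hgc
    have h6 : Nat.Coprime (2 ^ k) (Nat.card (centralizer ({φ x} : Set H))) :=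
      Nat.Coprime.pow_left k ((Nat.Prime.coprime_iff_not_dvd Nat.prime_two).2 hc2)
    exact orderOf_eq_one_iff.1 (Nat.eq_one_of_dvd_coprimes h6 h2 h3)
  · refine nn_lift hV hVC φ hφ hkc hkp (by norm_num : Nat.Prime 5) (by norm_num) hxo
      (fun a b ha hb => isConj_of_orderOf (p := 5) hP h25 he ha hb) hM ?_
    exact nn_of_hasSplit hs hP he (mem_zpowers _) hφx1 hi hj hc hc2 hM

end Cfsg.Agent.H52.FourTool
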