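import Cfsg.Agent.H52.FourTool
import Cfsg.Agent.CTwoTab.Ru
import Cfsg.Agent.H996.AllSplit
import Cfsg.Agent.H98.SzBasic
import Cfsg.Agent.OddCyclic.ClaimC.SzIso
import Cfsg.Agent.NotCT.Orders

/-!
# `Loc` for `Ru`
-/

set_option autoImplicit false

namespace Cfsg.Agent.H52.FourRu

open Cfsg Subgroup
open Cfsg.Agent.H652.Four
open Cfsg.Agent.H52.FourTool

universe u

theorem card_centralizer_sz {F : Type} [Field F] [Fintype F] {m : ℕ} (hm : 1 ≤ m)
    (hF : Fintype.card F = 2 ^ (2 * m + 1)) (hc : Nat.card (Cfsg.Sz F m) = 29120) {g : Cfsg.Sz F m}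
    (hg : orderOf g = 5) : Nat.card (centralizer ({g} : Set (Cfsg.Sz F m))) = 5 := by
  have hm1 : m = 1 := by
    by_contra hne
    have h1 := LieExceptional.SuzukiSylow.card_Sz hm hF
    rw [hc] at h1
    have h2 : 2 ^ 5 ≤ 2 ^ (2 * m + 1) := Nat.pow_le_pow_right (by norm_num) (by omega)
    generalize 2 ^ (2 * m + 1) = q at *
    have h3 : 31 ≤ q - 1 := by omega
    have h4 : 32 ^ 2 ≤ q ^ 2 := Nat.pow_le_pow_left (by omega) 2
    have h5 : (32 ^ 2 + 1) * (32 ^ 2 * 31) ≤ (q ^ 2 + 1) * (q ^ 2 * (q - 1)) :=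
      Nat.mul_le_mul (by omega) (Nat.mul_le_mul h4 h3)
    omega
  subst hm1
  have hg1 : g ≠ 1 := by
    rintro rfl
    rw [orderOf_one] at hg
    omega
  have hdvd : 5 ∣ Nat.card (centralizer ({g} : Set (Cfsg.Sz F 1))) := by
    rw [← hg]
    exact Subgroup.orderOf_dvd_natCard _ (mem_centralizer_singleton_iff.2 rfl)
  have hco : ∀ y : Cfsg.Sz F 1, orderOf (y * g * y⁻¹) = 5 := by
    intro y
    rw [← hg]
    exact MulEquiv.orderOf_eq (MulAut.conj y) g
  rcases H98.SzBasic.trichotomy le_rfl hF hg1 with h | ⟨y, k, hk, h⟩ | ⟨y, a, b, hab, h⟩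
  · have h1 := H98.SzBasic.card_centralizer_free le_rfl hF h
    simp only [Set.mem_insert_iff, Set.mem_singleton_iff] at h1
    rcases h1 with h1 | h1
    · rw [h1] at hdvd
      norm_num at hdvd
    · rw [h1]
      norm_num
  · exfalso
    have h1 := H98.SzBasic.card_centralizer_of_conj_h le_rfl hF hk h
    rw [h1.1] at hdvd
    norm_num at hdvd
  · exfalso
    have h1 := hco y
    rw [h] at h1
    have h2 : LieExceptional.SuzukiSylow.u hF a b ∈
        ((LieExceptional.SuzukiSylow.sylowQ le_rfl hF : Sylow 2 (Cfsg.Sz F 1)) : Subgroup (Cfsg.Sz F 1)) := by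
      rw [← SetLike.mem_coe, LieExceptional.SuzukiSylow.coe_sylowQ le_rfl hF]
      exact ⟨a, b, rfl⟩
    obtain ⟨k, hk⟩ := (LieExceptional.SuzukiSylow.sylowQ le_rfl hF : Sylow 2 (Cfsg.Sz F 1)).isPGroup' ⟨_, h2⟩
    have h3 : orderOf (LieExceptional.SuzukiSylow.u hF a b) ∣ 2 ^ k :=
      orderOf_dvd_of_pow_eq_one (by simpa using congrArg Subtype.val hk)
    rw [h1] at h3
    have h4 := (Nat.prime_dvd_prime_iff_eq (by norm_num) Nat.prime_two).1
      ((by norm_num : Nat.Prime 5).dvd_of_dvd_pow h3)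
    omega

theorem card_centralizer_equiv {G H : Type*} [Group G] [Group H] (e : G ≃* H) (x : G) :
    Nat.card (centralizer ({x} : Set G)) = Nat.card (centralizer ({e x} : Set H)) := by
  refine Nat.card_congr ⟨fun g => ⟨e g, ?_⟩, fun g => ⟨e.symm g, ?_⟩, fun g => ?_, fun g => ?_⟩
  · rw [mem_centralizer_singleton_iff, ← map_mul, ← map_mul, mem_centralizer_singleton_iff.1 g.2]
  · rw [mem_centralizer_singleton_iff]
    apply e.injective
    rw [map_mul, map_mul, e.apply_symm_apply]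
    exact mem_centralizer_singleton_iff.1 g.2
  · exact Subtype.ext (e.symm_apply_apply _)
  · exact Subtype.ext (e.apply_symm_apply _)

theorem card_centralizer_five {L : Type*} [Group L] (h : Lie.IsoSuzuki L) (hc : Nat.card L = 29120) {g : L}
    (hg : orderOf g = 5) : Nat.card (centralizer ({g} : Set L)) = 5 := by
  obtain ⟨F, i1, i2, m, hm, hF, ⟨e⟩⟩ := h
  obtain ⟨e'⟩ := OddCyclic.ClaimC.SzIso.iso hm hF
  have e2 := e.trans e'.symm
  rw [card_centralizer_equiv e2]
  refine card_centralizer_sz hm hF ?_ ?_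
  · rw [← hc]
    exact (Nat.card_congr e2.toEquiv).symm
  · rw [← hg]
    exact MulEquiv.orderOf_eq e2 g

/-- **`Ru`** -/
theorem loc_Ru {S : Type u} [Group S] [Finite S] (h : Cfsg.Spor.IsoRu S) : Loc S := by
  classical
  obtain ⟨C, hsz, hc⟩ := CTwoTab.Ru.exists_core_sz h
  have hcard := NotCT.Orders.ru h
  let V : Subgroup S :=
    { carrier := Set.range C.v
      mul_mem' := by
        rintro _ _ ⟨a, rfl⟩ ⟨b, rfl⟩
        exact ⟨a + b, C.v_add a b⟩
      one_mem' := ⟨0, C.v_zero⟩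
      inv_mem' := by
        rintro _ ⟨a, rfl⟩
        exact ⟨a, (C.v_inv a).symm⟩ }
  have hVmem : ∀ g, g ∈ V ↔ ∃ a, C.v a = g := fun g => Iff.rfl
  have hcV : Nat.card V = 4 := by
    have h1 : Nat.card V = Nat.card RuB.A4 :=
      (Nat.card_congr (Equiv.ofInjective C.v (fun a b => C.v_inj))).symm
    rw [h1, Nat.card_eq_fintype_card]
    rfl
  have ha : ((1, 0) : RuB.A4) ≠ 0 := by decide
  have hVC : V ≤ centralizer (V : Set S) := by
    rintro _ ⟨a, rfl⟩
    rw [mem_centralizer_iff]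
    rintro _ ⟨b, rfl⟩
    exact C.v_v_comm b a
  have hLC : ∀ l ∈ C.L, l ∈ centralizer (V : Set S) := by
    intro l hl
    rw [mem_centralizer_iff]
    rintro _ ⟨b, rfl⟩
    exact C.v_comm b l hl
  have hCv : ∀ v ∈ V, v ≠ 1 → centralizer ({v} : Set S) ≤ centralizer (V : Set S) := by
    rintro _ ⟨a, rfl⟩ hv g hg
    have ha : a ≠ 0 := by
      rintro rfl
      exact hv C.v_zero
    obtain ⟨b, l, hl, rfl⟩ := C.cent a ha g (mem_centralizer_singleton_iff.1 hg)
    exact mul_mem (hVC ⟨b, rfl⟩) (hLC l hl)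
  have key : ∀ g : centralizer (V : Set S), ∃ l : C.L, ∃ b, (g : S) = C.v b * l := by
    intro g
    obtain ⟨b, l, hl, hg⟩ := C.cent _ ha g (mem_centralizer_iff.1 g.2 _ ⟨(1, 0), rfl⟩).symm
    exact ⟨⟨l, hl⟩, b, hg⟩
  choose f b hf using key
  have huniq : ∀ (b b' : RuB.A4) (l l' : C.L), C.v b * (l : S) = C.v b' * l' → l = l' := by
    intro b b' l l' h2
    exact Subtype.ext (C.vl_inj l.2 l'.2 h2).2
  have hmul : ∀ x y, f (x * y) = f x * f y := by
    intro x y
    refine huniq (b (x * y)) (b x + b y) _ _ ?_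
    rw [← hf, C.v_add]
    change (x : S) * (y : S) = C.v (b x) * C.v (b y) * ((f x : S) * (f y : S))
    rw [hf x, hf y]
    have h2 := C.v_comm (b y) (f x) (f x).2
    calc C.v (b x) * (f x : S) * (C.v (b y) * (f y : S)) =
        C.v (b x) * ((f x : S) * C.v (b y)) * (f y : S) := by group
      _ = C.v (b x) * (C.v (b y) * (f x : S)) * (f y : S) := by rw [h2]
      _ = _ := by group
  let φ : centralizer (V : Set S) →* C.L := MonoidHom.mk' f hmul
  have hc5 : ∀ y : C.L, orderOf y = 5 → Nat.card (centralizer ({y} : Set C.L)) = 5 :=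
    fun y hy => card_centralizer_five hsz hc hy
  have hfin : Finite C.L := inferInstance
  refine loc_of (V := V) (IsPGroup.of_card (n := 2) (by rw [hcV]; norm_num)) ?_ hVC hCv φ ?_ ?_
    (Omega.ML.LieRow.SzSplit.hasSplit_of_isoSuzuki hsz) (by rw [hc]; norm_num) (by rw [hc]; norm_num)
    (j := 91) (by norm_num) (by norm_num) (fun y hy => ?_) ?_
  · intro h0
    rw [h0, Subgroup.card_bot] at hcV
    omega
  · intro l
    refine ⟨⟨(l : S), hLC l l.2⟩, ?_⟩
    refine huniq (b ⟨(l : S), hLC l l.2⟩) 0 _ _ ?_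
    rw [C.v_zero, one_mul]
    exact (hf ⟨(l : S), hLC l l.2⟩).symm
  · intro g hg
    rw [hVmem]
    refine ⟨b g, ?_⟩
    have h1 := hf g
    have h2 : f g = 1 := hg
    rw [h2] at h1
    rw [h1, Subgroup.coe_one, mul_one]
  · have h1 := hc5 y hy
    have h2 := Subgroup.card_mul_index (centralizer ({y} : Set C.L))
    rw [h1, hc] at h2
    refine ⟨by omega, by rw [h1]; norm_num, by rw [h1]; norm_num⟩
  · rw [hcV, hcard]
    norm_num

end Cfsg.Agent.H52.FourRu
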