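import Cfsg.Agent.H93.PReg.Base
import Cfsg.Agent.H677.OrdSporIso
import Cfsg.Agent.H771.KTools
import Cfsg.Agent.KFacts.J2.Facts
import Cfsg.Agent.KFacts.He.TwoA
import Cfsg.Agent.KFacts.He.Classes
import Cfsg.Agent.ONType.PslCard
import Cfsg.Agent.KFacts.J4.SheetJ4
import Cfsg.Agent.SporadicA.MathieuRecog
import Cfsg.Agent.H92.ExcTits

/-!
# `PReg.Row` for the sporadic groups and the Tits group (task 827, for S4883)
-/

set_option autoImplicit false

namespace Cfsg.Agent.H52.PRegSpor

open Subgroup Cfsg Cfsg.Agent.H92.KTools Cfsg.Agent.H771.KTools Cfsg.Agent.H93.PReg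

/-- the primes which divide the order of a sporadic group -/
def ps : List ℕ := [2, 3, 5, 7, 11, 13, 17, 19, 23, 29, 31, 37, 41, 43, 47, 59, 67, 71]

/-- a common multiple of the orders -/
def big : ℕ := 2 ^ 50 * 3 ^ 22 * 5 ^ 10 * 7 ^ 7 * 11 ^ 4 * 13 ^ 4 *
  (17 * 19 * 23 * 29 * 31 * 37 * 41 * 43 * 47 * 59 * 67 * 71)

theorem ps_prime : ∀ q ∈ ps, q.Prime := by
  intro q hq
  simp only [ps, List.mem_cons, List.not_mem_nil, or_false] at hq
  rcases hq with rfl | rfl | rfl | rfl | rfl | rfl | rfl | rfl | rfl | rfl | rfl | rfl | rfl | rfl | rfl |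
    rfl | rfl | rfl <;> norm_num

theorem mem_of_sq {p : ℕ} (hp : p.Prime) (h5 : 5 ≤ p) (h : p ^ 2 ∣ big) : p ∈ [5, 7, 11, 13] := by
  have h1 : p ∈ ps := by
    have h2 : p ∣ ps.prod ^ 50 := (dvd_pow_self p two_ne_zero).trans (h.trans (by decide +kernel))
    have h3 : p ∣ ps.prod := hp.dvd_of_dvd_pow h2
    obtain ⟨q, hq, hpq⟩ := (hp.prime.dvd_prod_iff).1 h3
    rw [(Nat.prime_dvd_prime_iff_eq hp (ps_prime q hq)).1 hpq]
    exact hq
  simp only [ps, List.mem_cons, List.not_mem_nil, or_false] at h1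
  rcases h1 with rfl | rfl | rfl | rfl | rfl | rfl | rfl | rfl | rfl | rfl | rfl | rfl | rfl | rfl | rfl |
    rfl | rfl | rfl
  all_goals first
    | (exfalso; omega)
    | (simp; done)
    | (exfalso; revert h; decide +kernel)

/-- the test -/
def Chk (N : ℕ) (E : List ℕ) : Bool :=
  [5, 7, 11, 13].all fun p => (N % p ^ 2 != 0) ||
    (decide (p ≤ (((1 :: (ps.filter fun q => N % q == 0)) ++ E).filter fun k => k % p != 0).toFinset.card))

theorem row_of {S : Type*} [Group S] {N : ℕ} (hN : Nat.card S = N) (E : List ℕ)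
    (hE : ∀ k ∈ E, HasOrd S k) (hb : N ∣ big) (hchk : Chk N E = true) : Row S := by
  intro p hp h5 hd
  rw [hN] at hd
  have hN0 : N ≠ 0 := by
    rintro rfl
    exact absurd (Nat.eq_zero_of_zero_dvd hb) (by decide +kernel)
  have hfin : Finite S := Nat.finite_of_card_ne_zero (by rw [hN]; exact hN0)
  have hm := mem_of_sq hp h5 (hd.trans hb)
  have hc := List.all_eq_true.1 hchk p hm
  rw [Bool.or_eq_true] at hc
  rcases hc with hc | hc
  · exact absurd (Nat.mod_eq_zero_of_dvd hd) (by simpa using hc)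
  have hc' := of_decide_eq_true hc
  refine (MO.of_finset (S := S) (A := Reg p) _ ?_ ?_).mono (le_refl _) hc'
  · intro k hk
    rw [List.mem_toFinset, List.mem_filter] at hk
    rcases List.mem_append.1 hk.1 with h | h
    · rcases List.mem_cons.1 h with rfl | h
      · exact hasOrd_one S
      · rw [List.mem_filter] at h
        refine hasOrd_prime (ps_prime k h.1) ?_
        rw [hN]
        exact Nat.dvd_of_mod_eq_zero (by simpa using h.2)
    · exact hE k h
  · intro k hk
    rw [List.mem_toFinset, List.mem_filter] at hk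
    intro hpk
    exact absurd (Nat.mod_eq_zero_of_dvd hpk) (by simpa using hk.2)

/-- `J2` has elements of order `8` -/
theorem eight_J2 {S : Type*} [Group S] (h : Spor.IsoJ2 S) : HasOrd S 8 := by
  have hcard := NotCT.Orders.j2 h
  have hfin : Finite S := Nat.finite_of_card_ne_zero (by rw [hcard]; norm_num)
  obtain ⟨t, u, Q, v, ρ, D⟩ := KFacts.J2.Facts.exists_dat_of h
  obtain ⟨x, hx, hxt, hxu⟩ : ∃ x : S, IsConj t x ∧ x * t = t * x ∧ x * u ≠ u * x := by
    by_contra hcon
    push Not at hcon
    have h1 : Nat.card {x : S // IsConj t x ∧ x * t = t * x} = Nat.card {x : S // IsConj t x ∧ x * t = t * x ∧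
        x * u = u * x} := Nat.card_congr (Equiv.subtypeEquivRight fun x =>
          ⟨fun h => ⟨h.1, h.2, hcon x h.1 h.2⟩, fun h => ⟨h.1, h.2.1⟩⟩)
    rw [D.F.card11, D.F.card3] at h1
    omega
  have h4 := D.F.pow4 x u hx (IsConj.refl u) hxt D.F.comm.symm hxu
  refine ⟨x * u, orderOf_eq_prime_pow (p := 2) (n := 2) ?_ ?_⟩
  · rw [show (2 : ℕ) ^ 2 = 4 from rfl, h4]; exact D.t_ne
  · rw [show (2 : ℕ) ^ (2 + 1) = 4 * 2 from rfl, pow_mul, h4, pow_two, D.tt]

section He

open Cfsg.Spor Cfsg.Spor.He Cfsg.Agent.FixBN.HeStab Cfsg.Agent.KFacts.He.Lv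
open Cfsg.Agent.KFacts.He.TwoACent Cfsg.Agent.KFacts.He.TwoAPlane Cfsg.Agent.KFacts.He.TwoA

/-- `He` has elements of orders `6` and `10` -/
theorem he_ord {p : ℕ} (hp : p.Prime) (h2 : p ≠ 2) (hd : p ∣ 20160) : HasOrd Spor.He (2 * p) := by
  have hcard := KFacts.He.Classes.card_he
  have hfin : Finite Spor.He := Nat.finite_of_card_ne_zero (by rw [hcard]; norm_num)
  have hL : ∀ p, p ∣ 20160 → p ∣ Nat.card (centralizer ({gn .a} : Set Spor.He)) := by
    intro p hp
    rw [← ONType.PslCard.card_PSL3] at hp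
    exact (hp.trans (Subgroup.card_dvd_of_surjective Th Th_surjective)).trans (Subgroup.card_dvd_of_le two_a.1)
  exact two_mul_prime (gn_mul_self .a) a_ne_one hp h2 (hL p hd)

end He

/-- `J4` has elements of order `6` -/
theorem six_J4 {S : Type*} [Group S] (h : Spor.IsoJ4 S) : HasOrd S 6 := by
  have hcard := NotCT.Orders.j4 h
  have hfin : Finite S := Nat.finite_of_card_ne_zero (by rw [hcard]; norm_num)
  obtain ⟨h1, h2, ⟨F⟩⟩ := KFacts.J4.Base.exists_full h
  have hs := KFacts.J4.SheetJ4.sheet F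
  have h3 : Nat.card Spor.M22 ∣ Nat.card (centralizer ({F.C.z} : Set S)) :=
    (Subgroup.card_dvd_of_surjective _ (KFacts.J4.AutP.pi_surjective F.C.toCent)).trans
      (Subgroup.card_dvd_of_le (KFacts.J4.Base.MM_le _))
  exact two_mul_prime hs.zz hs.z1 (p := 3) (by norm_num) (by norm_num) (dvd_trans (by
    rw [SporadicA.MathieuRecog.card_M22]; norm_num) h3)

/-- the Tits group -/
theorem row_tits {S : Type*} [Group S] (h : Lie.IsoTits S) : Row S := by
  have h16 : HasOrd S 16 := by
    obtain ⟨e⟩ := h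
    exact (H92.ExcTits.hasOrd_tits (by decide) (by decide) H92.ExcTits.t16).of_equiv e.symm
  have hN := NotCT.Orders.tits h
  refine row_of hN [16] ?_ (by decide +kernel) (by decide +kernel)
  intro k hk
  rw [List.mem_singleton.1 hk]
  exact h16

/-- **the sporadic groups** -/
theorem row_spor {S : Type*} [Group S] (h : IsSporadicGroup S) : Row S := by
  have h1 := H677.OrdSporIso.rep (Or.inl h)
  unfold H677.OrdSporIso.Rep at h1
  rcases h1 with h | h | h | h | h | h | h | h | h | h | h | h | h | h | h | h | h | h | h | h |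
    h | h | h | h | h | h | h
  all_goals first
    | exact row_tits h.2
    | exact row_of h.1 [] (fun k hk => absurd hk (List.not_mem_nil)) (by decide +kernel) (by decide +kernel)
    | exact row_of h.1 [8] (fun k hk => by rw [List.mem_singleton.1 hk]; exact eight_J2 h.2)
        (by decide +kernel) (by decide +kernel)
    | exact row_of h.1 [6] (fun k hk => by rw [List.mem_singleton.1 hk]; exact six_J4 h.2)
        (by decide +kernel) (by decide +kernel)
    | exact row_of h.1 [6, 10] (fun k hk => by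
          have h6 : HasOrd S 6 := by
            obtain ⟨e⟩ := h.2
            exact (he_ord (p := 3) (by norm_num) (by norm_num) (by norm_num)).of_equiv e.symm
          have h10 : HasOrd S 10 := by
            obtain ⟨e⟩ := h.2
            exact (he_ord (p := 5) (by norm_num) (by norm_num) (by norm_num)).of_equiv e.symm
          simp only [List.mem_cons, List.not_mem_nil, or_false] at hk
          rcases hk with rfl | rfl
          · exact h6
          · exact h10)
        (by decide +kernel) (by decide +kernel)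

end Cfsg.Agent.H52.PRegSpor
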