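import Cfsg.Agent.H52.OddLift
import Cfsg.Agent.KFacts.MulEven.Fi22

/-!
# `Fi22`: the odd part of the Schur multiplier has order at most 3

In a perfect central extension `π : L →* Fi22` with kernel of odd exponent, the nine nodes have unique involutory lifts;
they satisfy the Coxeter relations and the two `E₇` relations, and the tenth power `s` of the spider is central with
`s ^ 3 = 1`.  The quotient by `s` splits, so the kernel is generated by `s`.
-/

set_option autoImplicit false
set_option linter.style.haveILetI false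

namespace Cfsg.Agent.H52.Fi22Odd

open Cfsg Cfsg.Agent.KFacts.MulEven.Cox9 Cfsg.Agent.KFacts.MulEven.Lift9 Cfsg.Agent.KFacts.MulEven.Fi22
open Cfsg.Agent.H51.Mult Cfsg.Agent.H52.OddLift

/-- Involutions with the commutation and braid relations. -/
theorem liftable_of {G : Type*} [Group G] {m : Fin 9 → G} (hsq : ∀ i, m i * m i = 1)
    (hc : ∀ i j, lab i j = 2 → m i * m j = m j * m i) (hb : ∀ i j, lab i j = 3 → m i * m j * m i = m j * m i * m j) :
    M9.IsLiftable m := by
  intro i j
  show (m i * m j) ^ lab i j = 1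
  rcases lab_cases i j with ⟨h1, rfl⟩ | h1 | h1
  · rw [h1, pow_one]; exact hsq i
  · rw [h1]
    rw [(show Commute (m i) (m j) from hc i j h1).mul_pow, pow_two, pow_two, hsq, hsq, one_mul]
  · rw [h1]
    have hbb := hb i j h1
    calc (m i * m j) ^ 3 = (m i * m j * m i) * (m j * m i * m j) := by
          simp only [pow_succ, pow_zero, one_mul, mul_assoc]
      _ = (m j * m i * m j) * (m j * m i * m j) := by rw [hbb]
      _ = m j * m i * (m j * m j) * m i * m j := by group
      _ = m j * (m i * m i) * m j := by rw [hsq j]; group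
      _ = 1 := by rw [hsq i, mul_one, hsq j]

/-- Lifting the Coxeter relations. -/
theorem exists_cox {M E : Type*} [Group M] [Group E] {π : M →* E} (h : OExt π) {e : Fin 9 → E}
    (he : M9.IsLiftable e) : ∃ m : Fin 9 → M, (∀ i, π (m i) = e i) ∧ M9.IsLiftable m := by
  choose m hm hsq using fun i => h.exists_inv (sq he i)
  refine ⟨m, hm, liftable_of hsq (fun i j h1 => ?_) (fun i j h1 => ?_)⟩
  · exact h.comm (hsq i) (hsq j) (by rw [hm, hm]; exact (comm_of he h1).eq)
  · exact h.braid (hsq i) (hsq j) (by rw [hm, hm]; exact braid he (adj_of_lab i j h1))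

theorem chk_18A : chk (rep 18 WA) [] = true := by decide +kernel
theorem chk_18B : chk (rep 18 WB) [] = true := by decide +kernel

/-- A central tenth power of the spider has exponent 3. -/
theorem spider_cube {G : Type*} [Group G] {s : Fin 9 → G} (hs : M9.IsLiftable s)
    (hc : ∀ g : G, ev s spider ^ 10 * g = g * ev s spider ^ 10) : (ev s spider ^ 10) ^ 3 = 1 := by
  have h := ev_eq_ev hs chk_triple
  simp only [ev_append, ev_rep, ev_nil] at h
  have r1 : ev s [1, 5, 7, 8] = (ev s [8, 7, 5, 1])⁻¹ := ev_reverse hs [8, 7, 5, 1]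
  have r2 : ev s [2, 5, 4, 8, 7] = (ev s [7, 8, 4, 5, 2])⁻¹ := ev_reverse hs [7, 8, 4, 5, 2]
  rw [r1, r2] at h
  set S := ev s spider ^ 10 with hS
  rw [← h]
  calc S ^ 3 = S * S * S := by simp only [pow_succ, pow_zero, one_mul]
    _ = S * (S * ev s [8, 7, 5, 1]) * (ev s [8, 7, 5, 1])⁻¹ * (S * ev s [7, 8, 4, 5, 2]) *
          (ev s [7, 8, 4, 5, 2])⁻¹ := by group
    _ = S * (ev s [8, 7, 5, 1] * S) * (ev s [8, 7, 5, 1])⁻¹ * (ev s [7, 8, 4, 5, 2] * S) *
          (ev s [7, 8, 4, 5, 2])⁻¹ := by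
          rw [hc (ev s [8, 7, 5, 1]), hc (ev s [7, 8, 4, 5, 2])]
    _ = _ := by simp only [mul_assoc]

/-- The kernel of a perfect central extension of odd exponent is generated by the tenth power of the spider. -/
theorem exists_gen {L : Type*} [Group L] {π : L →* Spor.Fi22} (h : PCE π) (ho : OExt π) :
    ∃ s : L, π s = 1 ∧ s ^ 3 = 1 ∧ π.ker ≤ Subgroup.zpowers s := by
  obtain ⟨m, hm, hl⟩ := exists_cox ho frels_std.lift
  have hfun : (fun i => π (m i)) = e0 := funext hm
  set s := ev m spider ^ 10 with hs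
  have hπs : π s = 1 := by
    rw [hs, map_pow, ev_map, hfun]
    exact frels_std.spider
  have hsc : ∀ g : L, s * g = g * s := ho.cen s hπs
  have hs3 : s ^ 3 = 1 := spider_cube hl hsc
  -- the words of type `E₇`
  have e7 : ∀ w : List (Fin 9), chk (rep 18 w) [] = true → ev e0 w ^ 9 = 1 → ev m w ^ 9 = 1 := by
    intro w hw hw1
    refine ho.one_of_sq ?_ ?_
    · rw [map_pow, ev_map, hfun, hw1]
    · have h1 := ev_eq_ev hl hw
      rw [ev_rep, ev_nil] at h1
      rw [← pow_add]
      exact h1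
  have hA := e7 WA chk_18A frels_std.eA
  have hB := e7 WB chk_18B frels_std.eB
  -- the quotient
  set K := Subgroup.zpowers s with hK
  have hKc : K ≤ Subgroup.center L := by
    rw [hK, Subgroup.zpowers_le, Subgroup.mem_center_iff]
    exact fun g => (hsc g).symm
  haveI : K.Normal := normal_of_le_center hKc
  have hKπ : K ≤ π.ker := by rw [hK, Subgroup.zpowers_le]; exact hπs
  let q : L →* L ⧸ K := QuotientGroup.mk' K
  have hqs : q s = 1 := (QuotientGroup.eq_one_iff s).2 (Subgroup.mem_zpowers s)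
  have hR : FRels (fun i => q (m i)) 1 := by
    refine ⟨fun i j => ?_, ?_, ?_, ?_⟩
    · show (q (m i) * q (m j)) ^ _ = 1
      rw [← map_mul, ← map_pow, hl i j, map_one]
    · rw [← ev_map, ← map_pow, ← hs, hqs]
    · rw [← ev_map, ← map_pow, hA, map_one]
    · rw [← ev_map, ← map_pow, hB, map_one]
  obtain ⟨σ, hσ⟩ := hR.exists_hom
  let π' : L ⧸ K →* Spor.Fi22 := QuotientGroup.lift K π (fun x hx => hKπ hx)
  have hπ' : ∀ x, π' (q x) = π x := fun x => rfl
  have hid : π'.comp σ = MonoidHom.id _ := hom_ext fun i => by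
    show π' (σ (e0 i)) = e0 i
    rw [hσ, hπ', hm]
  refine ⟨s, hπs, hs3, ?_⟩
  have h1 := ker_le_of_section h q σ (fun x => by
    obtain ⟨y, hy⟩ := QuotientGroup.mk'_surjective K (σ (π x))
    have hy' : π y = π x := by
      rw [← hπ' y]
      show π' (QuotientGroup.mk' K y) = _
      rw [hy]
      exact DFunLike.congr_fun hid (π x)
    refine ⟨x * y⁻¹, by rw [map_mul, map_inv, hy', mul_inv_cancel], ?_⟩
    rw [← hy]
    show q x = q (x * y⁻¹) * q y
    rw [← map_mul, inv_mul_cancel_right])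
  rwa [QuotientGroup.ker_mk'] at h1

/-- **The odd part of the multiplier of `Fi22`.** -/
theorem bd {p : ℕ} (hp : p.Prime) (h2 : p ≠ 2) : Bd p ((6 : ℕ).factorization p) Spor.Fi22 := by
  intro L _ _ π h hP
  obtain ⟨s, hs, hs3, hle⟩ := exists_gen h (oext_of_pce h hp h2 hP)
  -- the kernel is generated by `s`
  have hgen : ∀ x : π.ker, x ∈ Subgroup.zpowers (⟨s, hs⟩ : π.ker) := by
    intro x
    obtain ⟨k, hk⟩ := Subgroup.mem_zpowers_iff.1 (hle x.2)
    exact Subgroup.mem_zpowers_iff.2 ⟨k, Subtype.ext hk⟩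
  have hcard : Nat.card π.ker = orderOf (⟨s, hs⟩ : π.ker) :=
    (orderOf_eq_card_of_forall_mem_zpowers hgen).symm
  have hd3 : Nat.card π.ker ∣ 3 := by
    rw [hcard]
    exact orderOf_dvd_of_pow_eq_one (Subtype.ext hs3)
  refine ⟨⟨⟨s, hs⟩, hgen⟩, ?_⟩
  haveI : Fact p.Prime := ⟨hp⟩
  obtain ⟨n, hn⟩ := hP.exists_card_eq
  rw [hn] at hd3 ⊢
  by_cases h3 : p = 3
  · subst h3
    have hf : (6 : ℕ).factorization 3 = 1 := by
      rw [show (6 : ℕ) = 2 * 3 from rfl, Nat.factorization_mul (by norm_num) (by norm_num), Finsupp.add_apply,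
        Nat.prime_two.factorization, Nat.prime_three.factorization]
      simp
    rw [hf]
    simpa using hd3
  · have : n = 0 := by
      by_contra h0
      have h4 : p ∣ 3 := (dvd_pow_self p h0).trans hd3
      exact h3 ((Nat.prime_dvd_prime_iff_eq hp Nat.prime_three).1 h4)
    rw [this, pow_zero]
    exact one_dvd _

end Cfsg.Agent.H52.Fi22Odd
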