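import Cfsg.Agent.H52.GowMin
import Cfsg.Agent.H863.BMin
import Cfsg.Agent.H847.MonDeg
import Cfsg.Agent.MonsterX.DropFixed
import Cfsg.Agent.MonsterP.Equiv

/-!
# Rational-valued irreducible characters of odd degree of the Baby Monster (4371) and the Monster (196883)
(S4913, task 937)
-/

set_option autoImplicit false

namespace Cfsg.Agent.H52.GowBM

open Cfsg Cfsg.Agent.H636.Gow Cfsg.Agent.H52.GowMin
open Cfsg.Agent.MonsterX Cfsg.Agent.MonsterX.Model Cfsg.Agent.MonsterX.MainBasic

theorem b {K : Type*} [Group K] [Finite K] (h : Spor.IsoB K) : RatOdd K := by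
  obtain ⟨e⟩ := h
  have : Finite Spor.BabyMonster := Finite.of_equiv _ e.toEquiv
  apply RatOdd.of_equiv e
  obtain ⟨ρ, -, hρ⟩ := H863.BMin.exists_rep (F := ℚ) two_ne_zero
  refine ratOdd_of_min (G := Spor.BabyMonster) ρ (n := 4371) (by rw [Module.finrank_fin_fun]) (by decide) ?_ ?_
  · by_contra hcon
    push Not at hcon
    exact hρ (MonoidHom.ext hcon)
  · rintro m σ ⟨g, hg⟩
    have h1 := H863.BMin.min_degree (F := ℂ) two_ne_zero (W := Fin m → ℂ) σ (fun h => hg (by rw [h]; rfl))
    rwa [Module.finrank_fin_fun] at h1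

/-- The centraliser type facts: a vector fixed by `C` and `τ` is fixed by `G`. -/
theorem fixed_of {W : Type} [AddCommGroup W] [Module ℚ W] {M : MData W} {v : W} (h1 : ∀ g ∈ M.C, g v = v)
    (h2 : M.τ v = v) (g : M.G) : (g : W ≃ₗ[ℚ] W) v = v := by
  have hle : M.G ≤ ({ carrier := {g | g v = v}
                      mul_mem' := by
                        intro a b (ha : a v = v) (hb : b v = v)
                        change (a * b) v = v
                        rw [LinearEquiv.mul_apply, hb, ha]
                      one_mem' := rfl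
                      inv_mem' := by
                        intro a (ha : a v = v)
                        change a⁻¹ v = v
                        exact (eq_inv_apply a ha).symm } : Subgroup (W ≃ₗ[ℚ] W)) := by
    refine (Subgroup.closure_le _).2 ?_
    rintro x (hx | hx)
    · exact h1 x hx
    · have : x = M.τ := hx
      subst this
      exact h2
  exact hle g.2

theorem concG : RatOdd ↥InstData.M.G := by
  have hf : Finite ↥InstData.M.G := G_finite InstanceFinal.mOrbit
  have hsimple : IsSimpleGroup ↥InstData.M.G := MonsterP.EquivOf.isM_model.1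
  have hdim := Instance.mRep.finrank_eq
  have hfd : FiniteDimensional ℚ Space.V := Module.finite_of_finrank_pos (by rw [hdim]; norm_num)
  obtain ⟨v, hv, h1, h2⟩ := InstanceFinal.mExtra.fixed
  obtain ⟨ψ, hψ⟩ := DropFixed.exists_GL_of_fixed (G := ↥InstData.M.G) (K := ℚ)
    (by exact_mod_cast Nat.card_pos.ne') (V := Space.V) (n := 196883) hdim InstData.M.G.subtype
    Subtype.val_injective hv (fixed_of h1 h2)
  let ρ : Representation ℚ ↥InstData.M.G (Fin 196883 → ℚ) :=
    (Units.coeHom _).comp ((Matrix.GeneralLinearGroup.toLin (n := Fin 196883) (R := ℚ)).toMonoidHom.comp ψ)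
  refine ratOdd_of_min ρ (n := 196883) (by rw [Module.finrank_fin_fun]) (by decide) ?_ ?_
  · obtain ⟨g, hg⟩ := exists_ne (1 : ↥InstData.M.G)
    refine ⟨g, fun h => hg ?_⟩
    apply hψ
    rw [map_one]
    apply Matrix.GeneralLinearGroup.toLin.injective
    rw [map_one]
    exact Units.ext h
  · rintro m σ hσ
    have h1 := H847.MonDeg.bound_model σ hσ
    rwa [Module.finrank_fin_fun] at h1

theorem m {K : Type*} [Group K] [Finite K] (h : Spor.IsoM K) : RatOdd K := by
  obtain ⟨e⟩ := h
  obtain ⟨f⟩ := MonsterP.Equiv.equiv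
  have hf : Finite ↥InstData.M.G := G_finite InstanceFinal.mOrbit
  exact RatOdd.of_equiv (e.trans f) concG

end Cfsg.Agent.H52.GowBM
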