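import Cfsg.Agent.H636.Gow.Defs
import Cfsg.Agent.H707.Eigen
import Cfsg.Agent.Characters.Values

/-!
# Rational representations of minimal degree (S4913, task 937)

* `ratOdd_of_min` : `G` has a nontrivial rational representation of odd degree `n` and no nontrivial complex
  representation of degree less than `n`: `RatOdd G`.
-/

set_option autoImplicit false

namespace Cfsg.Agent.H52.GowMin

open Cfsg Cfsg.Agent.Characters.Core Cfsg.Agent.Characters Cfsg.Agent.H636.Gow Cfsg.Agent.H707.Eigen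
open scoped TensorProduct

universe u

variable {G : Type u} [Group G] [Finite G] {V : Type*} [AddCommGroup V] [Module ℚ V] [FiniteDimensional ℚ V]

omit [Finite G] in
theorem character_bc_one (ρ : Representation ℚ G V) : (bc ρ).character 1 = (Module.finrank ℚ V : ℂ) := by
  rw [bc_character, map_one, Module.End.one_eq_id, LinearMap.trace_id]
  norm_num

omit [FiniteDimensional ℚ V] in
theorem one_tmul_eq_zero {x : V} (h : (1 : ℂ) ⊗ₜ[ℚ] x = 0) : x = 0 := by
  rw [← Module.forall_dual_apply_eq_zero_iff ℚ x]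
  intro f
  have h1 : (TensorProduct.rid ℚ ℂ) ((LinearMap.baseChange ℂ (f : V →ₗ[ℚ] ℚ)) ((1 : ℂ) ⊗ₜ x)) = 0 := by
    rw [h, map_zero, map_zero]
  rw [LinearMap.baseChange_tmul, TensorProduct.rid_tmul, Algebra.smul_def, mul_one] at h1
  exact (map_eq_zero _).1 h1

theorem ratOdd_of_min (ρ : Representation ℚ G V) {n : ℕ} (hn : Module.finrank ℚ V = n) (hodd : Odd n)
    (hne : ∃ g, ρ g ≠ 1)
    (hmin : ∀ (m : ℕ) (σ : Representation ℂ G (Fin m → ℂ)), (∃ g, σ g ≠ 1) → n ≤ m) : RatOdd G := by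
  classical
  have := Fintype.ofFinite G
  have := finite_irr (G := G)
  have := Fintype.ofFinite (IrrCharacter G)
  have hχ : IsCharacter G (bc ρ).character := isCharacter_of_rep _
  obtain ⟨m, hm⟩ := exists_nat_comb hχ
  -- `ρ g ≠ 1` gives a value different from the degree
  obtain ⟨g, hg⟩ := hne
  have hgχ : (bc ρ).character g ≠ (bc ρ).character 1 := by
    intro h
    apply hg
    have h1 : bc ρ g = LinearMap.id := by
      rw [← Values.character_eq_finrank_iff, h, Representation.char_one]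
    refine LinearMap.ext fun v => ?_
    have h2 : bc ρ g ((1 : ℂ) ⊗ₜ[ℚ] v) = (1 : ℂ) ⊗ₜ[ℚ] v := by rw [h1]; rfl
    rw [bc_tmul] at h2
    have h3 : (1 : ℂ) ⊗ₜ[ℚ] (ρ g v - v) = 0 := by rw [TensorProduct.tmul_sub, h2, sub_self]
    exact sub_eq_zero.1 (one_tmul_eq_zero h3)
  -- a nontrivial constituent
  obtain ⟨ψ, hψ0, hψ1⟩ : ∃ ψ : IrrCharacter G, m ψ ≠ 0 ∧ (ψ : G → ℂ) ≠ 1 := by
    by_contra hcon
    push Not at hcon
    apply hgχ
    rw [hm, Finset.sum_apply, Finset.sum_apply]
    refine Finset.sum_congr rfl fun ψ _ => ?_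
    rw [Pi.smul_apply, Pi.smul_apply]
    by_cases h : m ψ = 0
    · rw [h, zero_smul, zero_smul]
    · rw [hcon ψ h]; rfl
  obtain ⟨k, σ, hσ, hσψ⟩ := ψ.2
  have hk1 : (ψ : G → ℂ) 1 = k := by
    rw [← hσψ, Representation.char_one, Module.finrank_fin_fun]
  have hnk : n ≤ k := by
    apply hmin k σ
    by_contra hcon
    push Not at hcon
    have hcst : ∀ x, (ψ : G → ℂ) x = k := by
      intro x
      rw [← hk1, ← hσψ]
      unfold Representation.character
      rw [hcon x, hcon 1]
    have h2 := classInner_irr_self ψ.2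
    rw [classInner_def, Finset.sum_congr rfl (fun x _ => by rw [hcst x]), Finset.sum_const, Finset.card_univ,
      ← Nat.card_eq_fintype_card, nsmul_eq_mul, ← mul_assoc,
      inv_mul_cancel₀ card_ne_zero_complex, one_mul, Complex.conj_natCast] at h2
    have h3 : k * k = 1 := by exact_mod_cast h2
    have h4 : k = 1 := Nat.eq_one_of_mul_eq_one_left h3
    apply hψ1
    funext x
    rw [hcst x, h4, Nat.cast_one]
    rfl
  -- degrees
  have hdeg : ∀ φ : IrrCharacter G, ∃ d : ℕ, 0 < d ∧ (φ : G → ℂ) 1 = d := fun φ => isIrr_apply_one φ.2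
  choose d hd0 hd using hdeg
  have hdψ : d ψ = k := by
    have := (hd ψ).symm.trans hk1
    exact_mod_cast this
  have hsum : ∑ φ : IrrCharacter G, m φ * d φ = n := by
    have h2 := character_bc_one ρ
    rw [hn, hm, Finset.sum_apply, Finset.sum_congr rfl (fun φ _ => by
      rw [Pi.smul_apply, hd φ, nsmul_eq_mul])] at h2
    exact_mod_cast h2
  have hsplit : m ψ * d ψ + ∑ φ ∈ Finset.univ.erase ψ, m φ * d φ = n := by
    rw [← hsum]
    exact Finset.add_sum_erase Finset.univ (fun φ => m φ * d φ) (Finset.mem_univ ψ)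
  have hn0 : 0 < n := hodd.pos
  have h5 : 1 ≤ m ψ := Nat.one_le_iff_ne_zero.2 hψ0
  have h6 : k ≤ m ψ * k := Nat.le_mul_of_pos_left _ h5
  rw [hdψ] at hsplit
  have h7 : ∑ φ ∈ Finset.univ.erase ψ, m φ * d φ = 0 := by omega
  have hkn : k = n := by omega
  have h8 : m ψ * k = 1 * k := by omega
  have hmψ : m ψ = 1 := Nat.eq_of_mul_eq_mul_right (by omega) h8
  have hχψ : (bc ρ).character = (ψ : G → ℂ) := by
    rw [hm, Finset.sum_eq_single ψ, hmψ, one_smul]
    · intro φ _ hφ
      have h9 := (Finset.sum_eq_zero_iff.1 h7) φ (Finset.mem_erase.2 ⟨hφ, Finset.mem_univ _⟩)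
      rcases mul_eq_zero.1 h9 with h | h
      · rw [h, zero_smul]
      · exact absurd h (hd0 φ).ne'
    · intro h; exact absurd (Finset.mem_univ _) h
  refine ⟨(bc ρ).character, hχψ ▸ ψ.2, hχψ ▸ hψ1, ⟨n, hodd, ?_⟩, fun x => ⟨_, bc_character ρ x⟩⟩
  rw [character_bc_one, hn]

end Cfsg.Agent.H52.GowMin
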