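import Cfsg.Agent.H636.Gow.Par

/-!
# Actions on pairs of points (S4913)

`H` acts transitively on `U`, `l` is a central involution of `H` without fixed points on `U`, `H = F × ⟨l⟩`, and the
stabiliser of the pair `{p₀, l p₀}` has at most three orbits on `U`: `RatOdd F`.
-/

set_option autoImplicit false

namespace Cfsg.Agent.H52.GowPairs

open Cfsg Cfsg.Agent.H636.Gow MulAction

theorem ratOdd_pairs {F G : Type*} [Group F] [Finite F] [Group G] (rho : G →* Equiv.Perm ℕ) (φ : F →* G) (l : G)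
    (H : Subgroup G) (hφ : ∀ f, φ f ∈ H) (hl : l ∈ H) (hll : l * l = 1) (hcen : ∀ h ∈ H, h * l = l * h)
    (hcov : ∀ h ∈ H, ∃ f, h = φ f ∨ h = φ f * l) (U : Set ℕ) (p₀ : ℕ)
    (hU : {p : ℕ | ∃ h ∈ H, rho h p₀ = p} = U) (hne : rho l p₀ ≠ p₀) {n : ℕ} (hn : U.ncard = 4 * n) (hn0 : n ≠ 0)
    (q : Fin 3 → ℕ) (hq : ∀ i, q i ∈ U)
    (hK : ∀ p ∈ U, ∃ i, ∃ k ∈ H, (rho k p₀ = p₀ ∨ rho k p₀ = rho l p₀) ∧ rho k (q i) = p) : RatOdd F := by
  classical
  let P : ℕ → Set ℕ := fun p => {p, rho l p}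
  have hlp : ∀ p, rho l (rho l p) = p := by
    intro p
    rw [← Equiv.Perm.mul_apply, ← map_mul, hll, map_one, Equiv.Perm.one_apply]
  have hcom : ∀ h ∈ H, ∀ p, rho l (rho h p) = rho h (rho l p) := by
    intro h hh p
    rw [← Equiv.Perm.mul_apply, ← map_mul, ← hcen h hh, map_mul, Equiv.Perm.mul_apply]
  have hPim : ∀ h ∈ H, ∀ p, rho h '' P p = P (rho h p) := by
    intro h hh p
    change rho h '' {p, rho l p} = {rho h p, rho l (rho h p)}
    rw [Set.image_pair, hcom h hh]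
  have hPl : ∀ p, P (rho l p) = P p := by
    intro p
    change ({rho l p, rho l (rho l p)} : Set ℕ) = {p, rho l p}
    rw [hlp, Set.pair_comm]
  have hPf : ∀ k ∈ H, ∃ f, ∀ p, rho (φ f) '' P p = P (rho k p) := by
    intro k hk
    obtain ⟨f, rfl | rfl⟩ := hcov k hk
    · exact ⟨f, hPim _ hk⟩
    · refine ⟨f, fun p => ?_⟩
      rw [hPim _ (hφ f), map_mul, Equiv.Perm.mul_apply, ← hPim _ (hφ f), ← hPim _ (hφ f), hPl]
  have hUH : ∀ h ∈ H, ∀ p ∈ U, rho h p ∈ U := by
    intro h hh p hp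
    rw [← hU] at hp ⊢
    obtain ⟨k, hk, rfl⟩ := hp
    exact ⟨h * k, H.mul_mem hh hk, by rw [map_mul, Equiv.Perm.mul_apply]⟩
  have hp₀ : p₀ ∈ U := by
    rw [← hU]
    exact ⟨1, H.one_mem, by rw [map_one, Equiv.Perm.one_apply]⟩
  have hfree : ∀ p ∈ U, rho l p ≠ p := by
    intro p hp
    rw [← hU] at hp
    obtain ⟨h, hh, rfl⟩ := hp
    rw [hcom h hh]
    exact fun he => hne ((rho h).injective he)
  let X : Type := {s : Set ℕ // s ∈ P '' U}
  let _ : MulAction F X :=
    { smul := fun f s => ⟨rho (φ f) '' s.1, by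
        obtain ⟨_, p, hp, rfl⟩ := s
        exact ⟨rho (φ f) p, hUH _ (hφ f) p hp, (hPim _ (hφ f) p).symm⟩⟩
      one_smul := fun s => Subtype.ext (by
        change rho (φ 1) '' s.1 = s.1
        rw [map_one, map_one, Equiv.Perm.coe_one, Set.image_id])
      mul_smul := fun f g s => Subtype.ext (by
        change rho (φ (f * g)) '' s.1 = rho (φ f) '' (rho (φ g) '' s.1)
        rw [map_mul, map_mul, Equiv.Perm.coe_mul, Set.image_comp]) }
  have hsm : ∀ (f : F) (s : X), ((f • s : X) : Set ℕ) = rho (φ f) '' s.1 := fun _ _ => rfl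
  have hUfin : U.Finite := Set.finite_of_ncard_ne_zero (by rw [hn]; omega)
  have hXfin : Finite X := (hUfin.image P).to_subtype
  let mk : (p : ℕ) → p ∈ U → X := fun p hp => ⟨P p, p, hp, rfl⟩
  have htr : IsPretransitive F X := by
    refine ⟨?_⟩
    rintro ⟨_, p, hp, rfl⟩ ⟨_, p', hp', rfl⟩
    rw [← hU] at hp hp'
    obtain ⟨h, hh, rfl⟩ := hp
    obtain ⟨h', hh', rfl⟩ := hp'
    obtain ⟨f, hf⟩ := hPf (h' * h⁻¹) (H.mul_mem hh' (H.inv_mem hh))
    refine ⟨f, Subtype.ext ?_⟩
    rw [hsm]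
    change rho (φ f) '' P (rho h p₀) = P (rho h' p₀)
    rw [hf, ← Equiv.Perm.mul_apply, ← map_mul, inv_mul_cancel_right]
  refine ratOdd_of_cover X (mk p₀ hp₀) (stabilizer F (mk p₀ hp₀)) (fun g => mem_stabilizer_iff)
    (fun i => mk (q i) (hq i)) ?_ ?_
  · rintro ⟨_, p, hp, rfl⟩
    obtain ⟨i, k, hk, hk0, rfl⟩ := hK p hp
    obtain ⟨f, hf⟩ := hPf k hk
    refine ⟨i, ⟨f, ?_⟩, Subtype.ext (hf _)⟩
    rw [mem_stabilizer_iff]
    apply Subtype.ext
    rw [hsm]
    change rho (φ f) '' P p₀ = P p₀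
    rw [hf]
    rcases hk0 with h | h
    · rw [h]
    · rw [h, hPl]
  · -- parity
    have h1 : Nat.card X = (P '' U).ncard := Nat.card_coe_set_eq _
    have h2 : U.ncard = 2 * (P '' U).ncard := by
      obtain ⟨T, hT⟩ : ∃ T : Finset ℕ, T = hUfin.toFinset := ⟨_, rfl⟩
      have hTU : (T : Set ℕ) = U := by rw [hT]; exact hUfin.coe_toFinset
      have h3 : ∀ s ∈ T.image P, (T.filter fun p => P p = s).card = 2 := by
        intro s hs
        obtain ⟨p, hp, rfl⟩ := Finset.mem_image.1 hs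
        have hpU : p ∈ U := by rw [← hTU]; exact hp
        have h4 : (T.filter fun p' => P p' = P p) = {p, rho l p} := by
          ext p'
          rw [Finset.mem_filter, Finset.mem_insert, Finset.mem_singleton]
          constructor
          · rintro ⟨-, h⟩
            have h5 : p' ∈ P p := by rw [← h]; exact Set.mem_insert _ _
            exact h5
          · rintro (rfl | rfl)
            · exact ⟨hp, rfl⟩
            · refine ⟨?_, hPl p⟩
              have h6 : rho l p ∈ U := hUH l hl p hpU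
              rw [← hTU] at h6
              exact h6
        rw [h4, Finset.card_pair (hfree p hpU).symm]
      have h7 := Finset.card_eq_sum_card_image P T
      rw [Finset.sum_congr rfl h3, Finset.sum_const, smul_eq_mul] at h7
      have h8 : (P '' U).ncard = (T.image P).card := by
        rw [← Set.ncard_coe_finset, Finset.coe_image, hTU]
      rw [h8, ← hTU, Set.ncard_coe_finset, h7, mul_comm]
    rw [h1]
    exact ⟨n, by omega⟩

end Cfsg.Agent.H52.GowPairs
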