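import Cfsg.Agent.H636.Gow.Par
import Cfsg.Agent.S1624
import Cfsg.Agent.S1680
import Cfsg.Agent.S1687
import Cfsg.Agent.SporadicRecognition.HSAssemble
import Cfsg.Agent.SporadicStructure.Co2RankThree
import Cfsg.Agent.H707.RowRu
import Cfsg.Agent.H707.RowCo1
import Cfsg.Agent.H707.RowCo3

/-!
# Rational-valued irreducible characters of odd degree: J2, HS, Suz, Ru, Fi22, Co2, Co3, Co1 (S4913, task 931)
-/

set_option autoImplicit false

namespace Cfsg.Agent.H52.GowRank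

open Cfsg Cfsg.Agent.H636.Gow Cfsg.Agent.H707.Rank MulAction

variable {K : Type*} [Group K] [Finite K]

theorem j2 (h : Spor.IsoJ2 K) : RatOdd K := by
  obtain ⟨e⟩ := h
  have : Finite Spor.J2 := Finite.of_equiv _ e.toEquiv
  obtain ⟨H, hi, -, c₁, c₂, h1, h2⟩ := S1624.result
  exact RatOdd.of_equiv e (ratOdd_rank_three H h1 h2 (by norm_num) (by norm_num) (by norm_num)
    (by rw [hi]) (by rw [hi]; decide))

theorem suz (h : Spor.IsoSuz K) : RatOdd K := by
  obtain ⟨e⟩ := h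
  have : Finite Spor.Suz := Finite.of_equiv _ e.toEquiv
  obtain ⟨hi, c₁, c₂, h1, h2⟩ := S1680.result
  exact RatOdd.of_equiv e (ratOdd_rank_three _ h1 h2 (by norm_num) (by norm_num) (by norm_num)
    (by rw [hi]) (by rw [hi]; decide))

theorem fi22 (h : Spor.IsoFi22 K) : RatOdd K := by
  obtain ⟨e⟩ := h
  have : Finite Spor.Fi22 := Finite.of_equiv _ e.toEquiv
  obtain ⟨hi, c₁, c₂, h1, h2⟩ := S1687.result
  exact RatOdd.of_equiv e (ratOdd_rank_three _ h1 h2 (by norm_num) (by norm_num) (by norm_num)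
    (by rw [hi]) (by rw [hi]; decide))

theorem hs (h : Spor.IsoHS K) : RatOdd K := by
  obtain ⟨e⟩ := h
  obtain ⟨H, Y, _, _, _, _, a, b, c, hr, hc, -, ⟨f⟩⟩ := SporadicRecognition.HSAssemble.hs_rank
  have : Finite H := Finite.of_equiv _ (e.trans f.symm).toEquiv
  have := hr.trans
  have : Nonempty Y := ⟨a⟩
  apply RatOdd.of_equiv (e.trans f.symm)
  apply ratOdd_of_rank_three Y (by rw [hr.cardX]; decide)
  rw [card_orbits_three' Y hr.cb hr.cc hr.hk hr.hl hr.ne hr.cardX]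

theorem co2 (h : Spor.IsoCo2 K) : RatOdd K := by
  obtain ⟨e⟩ := h
  obtain ⟨H, -, hi, c₁, c₂, h1, h2⟩ := SporadicStructure.Co2RankThree.rank_three e
  exact ratOdd_rank_three H h1 h2 (by norm_num) (by norm_num) (by norm_num) (by rw [hi]) (by rw [hi]; decide)

open Cfsg.Agent.SporadicB Cfsg.Agent.SporadicB.RuData Cfsg.Agent.SporadicB.RuOrder in
theorem ru (h : Spor.IsoRu K) : RatOdd K := by
  obtain ⟨e⟩ := h
  apply RatOdd.of_equiv (e.trans RuLat.Main.equiv)
  have := isPretransitive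
  let S : Subgroup H := stabilizer H b1
  refine ratOdd_of_cover (G := H) (Fin 4060) b1 S (fun g => mem_stabilizer_iff)
    ![b1, b2, H707.RowRu.p] ?_ (by rw [Nat.card_fin]; decide)
  intro y
  have key : ∀ z, y ∈ orbit H1 z → y ∈ orbit S z := by
    rintro z ⟨σ, rfl⟩
    exact ⟨⟨⟨σ, σ.2.1⟩, σ.2.2⟩, rfl⟩
  rcases H707.RowRu.cover y with h | h | h
  · exact ⟨0, h ▸ mem_orbit_self _⟩
  · exact ⟨1, key _ h⟩
  · exact ⟨2, key _ h⟩

/-! ### Rank four -/

theorem ratOdd_of_cover_four {G : Type*} [Group G] [Finite G] (X : Type*) [MulAction G X] [Finite X]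
    [IsPretransitive G X] (x : X) (H : Subgroup G) (hH : ∀ g : G, g ∈ H ↔ g • x = x)
    (c : Fin 4 → X) (hcov : ∀ y : X, ∃ i, y ∈ orbit H (c i)) (heven : Even (Nat.card X))
    (h3 : ¬ 3 ∣ Nat.card X - 1) : RatOdd G := by
  have : Nonempty X := ⟨x⟩
  exact ratOdd_of_rank_four X heven h3 (by rw [card_orbits_prod x H hH]; exact card_orbits_le X c hcov)

section Co1

open Cfsg.Agent.H707.RowCo1 Cfsg.Agent.Leech.Basic

theorem co1' : RatOdd Spor.Co1 := by
  have hcard : Nat.card Spor.Co1 = 4157776806543360000 := S0399.result.2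
  have hfin : Finite Spor.Co1 := Nat.finite_of_card_ne_zero (by rw [hcard]; norm_num)
  have hcen := S1573.result u u.2 norm_u
  obtain ⟨g₁, hg₁⟩ := exists_of_dot (k := -16) (by rw [hcen.1]; norm_num)
  obtain ⟨g₂, hg₂⟩ := exists_of_dot (k := -8) (by rw [hcen.2.1]; norm_num)
  obtain ⟨g₃, hg₃⟩ := exists_of_dot (k := 0) (by rw [hcen.2.2]; norm_num)
  have hX : Nat.card (Spor.Co1 ⧸ H) = 98280 := index_H
  refine ratOdd_of_cover_four (Spor.Co1 ⧸ H) ((1 : Spor.Co1) : Spor.Co1 ⧸ H) H (mem_iff_smul H)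
    ![cs 1, cs g₁, cs g₂, cs g₃] ?_ (by rw [hX]; decide) (by rw [hX]; decide)
  intro y
  have hy : ∃ g : Co0, cs g = y ∧ dotInt (u : GolayPt → ℤ) ((g • u : leechLattice) : GolayPt → ℤ) ≤ 0 := by
    induction y using QuotientGroup.induction_on with | _ y =>
    obtain ⟨g, rfl⟩ := QuotientGroup.mk'_surjective (Subgroup.center Co0) y
    by_cases h : dotInt (u : GolayPt → ℤ) ((g • u : leechLattice) : GolayPt → ℤ) ≤ 0
    · exact ⟨g, rfl, h⟩
    · refine ⟨g * SporadicA.Co0Basic.negCo0, cs_neg g, ?_⟩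
      rw [mul_smul, neg_smul', smul_neg']
      show dotInt (u : GolayPt → ℤ) (-((g • u : leechLattice) : GolayPt → ℤ)) ≤ 0
      rw [dotInt_neg_right]
      linarith
  obtain ⟨g, rfl, hg⟩ := hy
  have hn : ∀ g : Co0, sqNorm ((g • u : leechLattice) : GolayPt → ℤ) = 32 := fun g => (norm_smul g u).trans norm_u
  rcases ip _ (hn g) hg with h | h | h | h
  · refine ⟨0, cs_eq (one_mem _) (Or.inr ?_)⟩
    rw [one_smul, one_smul, h, neg_neg]
  · obtain ⟨a, h1, h2⟩ := S1574.result u (g₁ • u) (g • u) norm_u (hn _) (hn _) hg₁ h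
    exact ⟨1, cs_eq (stab_le h1) (Or.inl h2)⟩
  · obtain ⟨a, h1, h2⟩ := S1575.result u (g₂ • u) (g • u) norm_u (hn _) (hn _) hg₂ h
    exact ⟨2, cs_eq (stab_le h1) (Or.inl h2)⟩
  · obtain ⟨a, h1, h2⟩ := S1576.result u (g₃ • u) (g • u) norm_u (hn _) (hn _) hg₃ h
    exact ⟨3, cs_eq (stab_le h1) h2⟩

end Co1

theorem co1 (h : Spor.IsoCo1 K) : RatOdd K := by
  obtain ⟨e⟩ := h
  exact RatOdd.of_equiv e co1'

section Co3

open Cfsg.Agent.H707.RowCo3 Cfsg.Agent.Leech.Basic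

local notation "V" => Spor.leechV

theorem co3' [Finite ↥Spor.Co3] : RatOdd ↥Spor.Co3 := by
  have hne : Nonempty X := by
    rw [← Finite.card_pos_iff, card_X]
    norm_num
  obtain ⟨x⟩ := hne
  obtain ⟨y, hy⟩ : ∃ y : X, dotInt (x.1 : GolayPt → ℤ) (y.1 : GolayPt → ℤ) = 16 := by
    have h := (S1580.result V x.1 normV x.2).1
    have h' := Set.nonempty_of_ncard_ne_zero (by rw [h]; norm_num)
    obtain ⟨y, h1, h2, h3⟩ := h'
    exact ⟨⟨y, h1, h2⟩, h3⟩
  refine ratOdd_of_cover_four X x (stabilizer _ x) (fun g => mem_stabilizer_iff)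
    ![x, opp x, y, opp y] ?_ (by rw [card_X]; decide) (by rw [card_X]; decide)
  intro z
  rcases ip x z with h | h | h | h
  · exact ⟨0, by rw [h]; exact mem_orbit_self _⟩
  · exact ⟨1, by rw [h]; exact mem_orbit_self _⟩
  · obtain ⟨g, hg⟩ := trans16 x y z hy h
    exact ⟨2, g, hg⟩
  · obtain ⟨g, hg⟩ := trans16 x y (opp z) hy h
    refine ⟨3, g, ?_⟩
    have h5 : (g : ↥Spor.Co3) • opp y = opp ((g : ↥Spor.Co3) • y) := smul_opp _ _
    have h6 : (g : ↥Spor.Co3) • y = opp z := hg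
    show (g : ↥Spor.Co3) • opp y = z
    rw [h5, h6, opp_opp]

end Co3

theorem co3 (h : Spor.IsoCo3 K) : RatOdd K := by
  obtain ⟨e⟩ := h
  have : Finite ↥Spor.Co3 := Finite.of_equiv _ e.toEquiv
  exact RatOdd.of_equiv e co3'

end Cfsg.Agent.H52.GowRank
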