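import Mathlib

/-!
# Extensions with a sign

`SExt π sgn`: `π : E → F` is surjective, its kernel has odd exponent and is centralised by the elements of sign `1`.
Involutions lift to involutions; the elements commuting with an involution `c̄` of sign `-1` have lifts commuting with a
given involutory lift `c`; an element of the kernel which is inverted by one element of sign `-1` and centralised by
another one is trivial.
-/

set_option autoImplicit false

namespace Cfsg.Agent.H52.SignExt

/-- The extension. -/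
structure SExt {E F : Type*} [Group E] [Group F] (π : E →* F) (sgn : F →* ℤˣ) : Prop where
  surj : Function.Surjective π
  cen : ∀ k, π k = 1 → ∀ g, sgn (π g) = 1 → k * g = g * k
  odd : ∃ n : ℕ, ∀ k, π k = 1 → k ^ (2 * n + 1) = 1

variable {E F : Type*} [Group E] [Group F] {π : E →* F} {sgn : F →* ℤˣ}

theorem SExt.comm (h : SExt π sgn) {k l : E} (hk : π k = 1) (hl : π l = 1) : k * l = l * k :=
  h.cen k hk l (by rw [hl, map_one])

theorem SExt.one_of_sq (h : SExt π sgn) {k : E} (hk : π k = 1) (h2 : k * k = 1) : k = 1 := by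
  obtain ⟨n, hn⟩ := h.odd
  have := hn k hk
  rwa [pow_succ, pow_mul, pow_two, h2, one_pow, one_mul] at this

/-- Two elements of sign `-1` act in the same way on the kernel. -/
theorem SExt.conj_eq (h : SExt π sgn) {k : E} (hk : π k = 1) {s t : E} (hs : sgn (π s) = -1) (ht : sgn (π t) = -1) :
    s * k * s⁻¹ = t * k * t⁻¹ := by
  have h1 : sgn (π (t⁻¹ * s)) = 1 := by
    rw [map_mul, map_mul, map_inv, map_inv, hs, ht]; decide
  have h2 := h.cen k hk _ h1
  calc s * k * s⁻¹ = t * ((t⁻¹ * s) * k) * s⁻¹ := by group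
    _ = t * (k * (t⁻¹ * s)) * s⁻¹ := by rw [h2]
    _ = t * k * t⁻¹ := by group

/-- An element of the kernel inverted by `s` and centralised by `c` is trivial. -/
theorem SExt.kill (h : SExt π sgn) {m s c : E} (hm : π m = 1) (hs : sgn (π s) = -1) (hc : sgn (π c) = -1)
    (hms : s * m * s⁻¹ = m⁻¹) (hmc : c * m = m * c) : m = 1 := by
  have h1 := h.conj_eq hm hs hc
  rw [hms, hmc, mul_inv_cancel_right] at h1
  exact h.one_of_sq hm (by rw [← h1]; nth_rewrite 2 [h1]; rw [inv_mul_cancel])

/-- Involutions lift to involutions. -/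
theorem SExt.exists_inv (h : SExt π sgn) {x : F} (hx : x * x = 1) : ∃ y, π y = x ∧ y * y = 1 := by
  obtain ⟨m, rfl⟩ := h.surj x
  obtain ⟨n, hn⟩ := h.odd
  have hk : π (m * m) = 1 := by rw [map_mul, hx]
  have hc : ∀ j : ℕ, Commute ((m * m) ^ j) m := fun j => Commute.pow_left
    (show Commute (m * m) m from mul_assoc m m m) j
  refine ⟨m * (m * m) ^ n, ?_, ?_⟩
  · rw [map_mul, map_pow, hk, one_pow, mul_one]
  · calc m * (m * m) ^ n * (m * (m * m) ^ n) = m * ((m * m) ^ n * m) * (m * m) ^ n := by simp only [mul_assoc]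
      _ = m * (m * (m * m) ^ n) * (m * m) ^ n := by rw [(hc n).eq]
      _ = (m * m) ^ (2 * n + 1) := by rw [pow_succ', two_mul, pow_add]; simp only [mul_assoc]
      _ = 1 := hn _ hk

/-- Lifts commuting with an involutory lift. -/
theorem SExt.adjust (h : SExt π sgn) {c e : E} (hc : c * c = 1) (hsc : sgn (π c) = -1)
    (he : π e * π c = π c * π e) :
    ∃ m, π m = 1 ∧ (e * m) * c = c * (e * m) ∧ (e * e = 1 → sgn (π e) = -1 → (e * m) * (e * m) = 1) := by
  obtain ⟨n, hn⟩ := h.odd
  have hci : c⁻¹ = c := inv_eq_of_mul_eq_one_left hc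
  -- `u = e⁻¹ c e c`
  obtain ⟨u, hu⟩ : ∃ u, u = e⁻¹ * c * e * c := ⟨_, rfl⟩
  have hπu : π u = 1 := by
    rw [hu, map_mul, map_mul, map_mul, map_inv]
    calc (π e)⁻¹ * π c * π e * π c = (π e)⁻¹ * (π c * π e) * π c := by group
      _ = (π e)⁻¹ * (π e * π c) * π c := by rw [he]
      _ = π (c * c) := by rw [map_mul]; group
      _ = 1 := by rw [hc, map_one]
  have e1 : e⁻¹ * c * e = u * c := by
    calc e⁻¹ * c * e = e⁻¹ * c * e * (c * c) := by rw [hc, mul_one]
      _ = u * c := by rw [hu]; group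
  -- `c u c = u⁻¹`
  have hcu : c * u * c⁻¹ = u⁻¹ := by
    have h1 : (u * c) * (u * c) = 1 := by
      rw [← e1]
      calc e⁻¹ * c * e * (e⁻¹ * c * e) = e⁻¹ * (c * c) * e := by group
        _ = 1 := by rw [hc]; group
    rw [hci]
    have h2 : u * (c * u * c) = 1 := by rw [← h1]; group
    exact (inv_eq_of_mul_eq_one_right h2).symm
  have hcj : ∀ j : ℕ, c * u ^ j * c⁻¹ = (u ^ j)⁻¹ := fun j => by rw [← conj_pow, hcu, inv_pow]
  refine ⟨u ^ (n + 1), by rw [map_pow, hπu, one_pow], ?_, ?_⟩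
  · have hm := hcj (n + 1)
    have e3 : (e * u ^ (n + 1))⁻¹ * c * (e * u ^ (n + 1)) = c := by
      calc (e * u ^ (n + 1))⁻¹ * c * (e * u ^ (n + 1)) = (u ^ (n + 1))⁻¹ * (e⁻¹ * c * e) * u ^ (n + 1) := by group
        _ = (u ^ (n + 1))⁻¹ * u * (c * u ^ (n + 1) * c⁻¹) * c := by rw [e1]; group
        _ = (u ^ (n + 1))⁻¹ * u * (u ^ (n + 1))⁻¹ * c := by rw [hm]
        _ = (u ^ (2 * n + 1))⁻¹ * c := by
            congr 1
            rw [show 2 * n + 1 = n + (n + 1) by ring]
            simp only [pow_add, pow_one]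
            group
        _ = c := by rw [hn u hπu, inv_one, one_mul]
    calc e * u ^ (n + 1) * c = e * u ^ (n + 1) * ((e * u ^ (n + 1))⁻¹ * c * (e * u ^ (n + 1))) := by rw [e3]
      _ = c * (e * u ^ (n + 1)) := by group
  · intro hee hse
    have h3 := h.conj_eq (k := u ^ (n + 1)) (by rw [map_pow, hπu, one_pow]) hse hsc
    rw [hcj] at h3
    have hei : e⁻¹ = e := inv_eq_of_mul_eq_one_left hee
    calc e * u ^ (n + 1) * (e * u ^ (n + 1)) = (e * u ^ (n + 1) * e⁻¹) * (e * e) * u ^ (n + 1) := by group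
      _ = 1 := by rw [h3, hee]; group

/-- An involution commuting with `c`. -/
theorem SExt.exists_inv_comm (h : SExt π sgn) {c : E} (hc : c * c = 1) (hsc : sgn (π c) = -1) {x : F}
    (hx : x * x = 1) (hsx : sgn x = -1) (hxc : x * π c = π c * x) : ∃ y, π y = x ∧ y * y = 1 ∧ y * c = c * y := by
  obtain ⟨e, rfl, he⟩ := h.exists_inv hx
  obtain ⟨m, hm, h1, h2⟩ := h.adjust hc hsc hxc
  exact ⟨e * m, by rw [map_mul, hm, mul_one], h2 he hsx, h1⟩

/-- Commuting involutions: the commutator is inverted. -/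
theorem SExt.comm_of (h : SExt π sgn) {a b c : E} (ha : a * a = 1) (hb : b * b = 1) (hsa : sgn (π a) = -1)
    (hsc : sgn (π c) = -1) (hab : π a * π b = π b * π a) (hac : a * c = c * a) (hbc : b * c = c * b) :
    a * b = b * a := by
  have hai : a⁻¹ = a := inv_eq_of_mul_eq_one_left ha
  have hbi : b⁻¹ = b := inv_eq_of_mul_eq_one_left hb
  have h1 : (a * b) * (a * b) = 1 := by
    refine h.kill (s := a) (c := c) ?_ hsa hsc ?_ ?_
    · rw [map_mul, map_mul]
      calc π a * π b * (π a * π b) = π a * π b * (π b * π a) := by rw [hab]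
        _ = π a * π (b * b) * π a := by rw [map_mul]; group
        _ = π (a * a) := by rw [hb, map_one, mul_one, map_mul]
        _ = 1 := by rw [ha, map_one]
    · calc a * (a * b * (a * b)) * a⁻¹ = (a * a) * b * a * b * a⁻¹ := by group
        _ = (a * b * (a * b))⁻¹ := by
          rw [ha, one_mul]
          simp only [mul_inv_rev, hai, hbi]
          group
    · have k1 : Commute c (a * b) := Commute.mul_right hac.symm hbc.symm
      exact (k1.mul_right k1).eq
  calc a * b = (a * b)⁻¹ := eq_inv_of_mul_eq_one_left h1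
    _ = b * a := by rw [mul_inv_rev, hai, hbi]

/-- Braided involutions. -/
theorem SExt.braid_of (h : SExt π sgn) {a b c : E} (ha : a * a = 1) (hb : b * b = 1) (hsa : sgn (π a) = -1)
    (hsc : sgn (π c) = -1) (hab : (π a * π b) ^ 3 = 1) (hac : a * c = c * a) (hbc : b * c = c * b) :
    (a * b) ^ 3 = 1 := by
  have hai : a⁻¹ = a := inv_eq_of_mul_eq_one_left ha
  have hbi : b⁻¹ = b := inv_eq_of_mul_eq_one_left hb
  refine h.kill (s := a) (c := c) ?_ hsa hsc ?_ ?_
  · rw [map_pow, map_mul, hab]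
  · rw [← conj_pow, ← inv_pow]
    congr 1
    calc a * (a * b) * a⁻¹ = (a * a) * b * a⁻¹ := by group
      _ = (a * b)⁻¹ := by rw [ha, one_mul, mul_inv_rev, hai, hbi]
  · have k1 : Commute c (a * b) := Commute.mul_right hac.symm hbc.symm
    exact (k1.pow_right 3).eq

end Cfsg.Agent.H52.SignExt
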